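import Cfsg.Agent.Lib.Spor.Mults.Basic
import Cfsg.Agent.Lib.Spor.Mults.HigmanSims.Data
import Cfsg.Agent.Lib.Spor.HSPerm.Group

/-!
The permutation group of degree 100 as a packed group.
-/

set_option autoImplicit false
set_option maxRecDepth 20000

namespace CfsgLib.Spor.Mults.HigmanSims

open Cfsg CfsgLib.Spor.PermCert

theorem gen_check : ((List.range 4).all fun k => (List.range 100).all fun i =>
    HSPerm.look HSPerm.eltRows k i == look 7 eltRows k i) = true := by
  decide +kernel

theorem gen_matches : ∀ k < 4, ∃ g ∈ HSPerm.P, Matches 7 g eltRows k := by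
  intro k hk
  obtain ⟨g, hg, hm⟩ := HSPerm.gen_matches k hk
  refine ⟨g, hg, fun i => ?_⟩
  have h := gen_check
  simp only [List.all_eq_true, List.mem_range, beq_iff_eq] at h
  rw [hm i, h k hk i.1 i.2]

theorem packed : Packed 7 eltRows 361 basePts transIdx HSPerm.P :=
  Packed.of_gens gen_matches elt_ops elt_count chain_check chain_size HSPerm.card_P base_lt

end CfsgLib.Spor.Mults.HigmanSims
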