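import Cfsg.Agent.Lib.Spor.SchurCert.PermBridge
import Cfsg.Agent.Lib.Spor.Mults.HigmanSims.Data

/-!
The certificate at the prime 2: a polycyclic sequence of a Sylow subgroup and conjugations killing the tails.
-/

set_option autoImplicit false
set_option maxRecDepth 100000
set_option maxHeartbeats 0

namespace CfsgLib.Spor.Mults.HigmanSims.P2

open CfsgLib.Spor.SchurCert

/-- The Sylow elements. -/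
def sw : List (List ℕ) := [
    [327, 322, 230, 266, 304],
    [288, 109, 91, 179, 304],
    [124, 35, 225, 218, 305],
    [75, 36, 347, 269, 336],
    [133, 279, 226, 342, 336],
    [327, 64, 157, 8, 305],
    [17, 194, 157, 8, 304],
    [245, 30, 8, 268, 336],
    [199, 30, 345, 178, 337]]

/-- The conjugating elements. -/
def gw : List (List ℕ) := [
    [207, 33, 220, 266, 337],
    [243, 29, 8, 342, 339],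
    [290, 317, 58, 306, 304],
    [327, 277, 95, 218, 339]]

/-- The certificate. -/
def cert : SchurCert.Cert where
  p := 2
  m := 9
  N := 4
  rules := [
    ([0, 0], [6]),
    ([1, 1], [2, 3, 4, 7, 8]),
    ([2, 2], []),
    ([3, 3], [5, 7, 8]),
    ([4, 4], []),
    ([5, 5], []),
    ([6, 6], []),
    ([7, 7], [8]),
    ([8, 8], []),
    ([1, 0], [0, 1, 2, 3, 4, 5, 6]),
    ([2, 0], [0, 2, 4, 5, 6]),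
    ([2, 1], [1, 2, 4, 5, 6, 7, 8]),
    ([3, 0], [0, 3, 4, 5, 8]),
    ([3, 1], [1, 3, 4]),
    ([3, 2], [2, 3, 5, 6, 7]),
    ([4, 0], [0, 4, 6]),
    ([4, 1], [1, 4, 5, 7]),
    ([4, 2], [2, 4, 8]),
    ([4, 3], [3, 4, 6, 8]),
    ([5, 0], [0, 5, 6]),
    ([5, 1], [1, 5, 6, 8]),
    ([5, 2], [2, 5, 8]),
    ([5, 3], [3, 5, 8]),
    ([5, 4], [4, 5, 8]),
    ([6, 0], [0, 6]),
    ([6, 1], [1, 6, 8]),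
    ([6, 2], [2, 6, 8]),
    ([6, 3], [3, 6, 8]),
    ([6, 4], [4, 6]),
    ([6, 5], [5, 6]),
    ([7, 0], [0, 7, 8]),
    ([7, 1], [1, 7]),
    ([7, 2], [2, 7, 8]),
    ([7, 3], [3, 7, 8]),
    ([7, 4], [4, 7]),
    ([7, 5], [5, 7]),
    ([7, 6], [6, 7]),
    ([8, 0], [0, 8]),
    ([8, 1], [1, 8]),
    ([8, 2], [2, 8]),
    ([8, 3], [3, 8]),
    ([8, 4], [4, 8]),
    ([8, 5], [5, 8]),
    ([8, 6], [6, 8]),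
    ([8, 7], [7, 8])]
  maps := [
    [([0, 1, 4, 6, 7], [2, 3, 4, 6, 7]), ([2, 3, 4, 6, 7], [0, 1, 4, 6, 7]), ([8], [0, 1, 2, 3, 6])],
    [([0], [0]), ([1, 3], [0, 1, 2, 5, 6, 7, 8]), ([2, 3], [5, 7]), ([4], [0, 2, 3, 4, 6, 7]), ([5], [5]), ([6], [6]), ([7], [2, 3, 5]), ([8], [6, 8])],
    [([0, 1, 4, 6], [5, 6]), ([5, 6], [0, 1, 4, 6])],
    [([0, 1], [3, 4, 5, 6, 7]), ([2], [4, 8]), ([3], [0, 1, 2, 5, 6, 7]), ([4], [2, 8]), ([5], [5]), ([6], [5, 6, 8]), ([7], [5, 7]), ([8], [8])]]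
  overlaps := [
    ([0, 0, 0], [(0, 0), (24, 0)], [(0, 1)]),
    ([1, 1, 1], [(1, 0), (38, 4), (31, 3), (16, 2), (13, 1), (11, 0), (40, 6), (33, 5), (27, 4), (22, 3), (18, 2), (42, 5), (29, 4), (8, 6), (6, 5), (44, 5), (8, 6), (41, 6), (34, 5), (23, 4), (4, 3), (44, 4), (8, 5), (34, 4), (23, 3), (44, 5), (42, 6), (35, 5), (5, 4), (44, 5), (7, 4), (8, 4)], [(1, 1)]),
    ([1, 1, 0], [(1, 0), (37, 4), (30, 3), (15, 2), (12, 1), (10, 0), (27, 4), (22, 3), (18, 2), (42, 5), (29, 4), (8, 6), (6, 5), (41, 5), (23, 4), (4, 3), (8, 4), (5, 3), (41, 3), (43, 4), (44, 5), (8, 6)], [(9, 1), (9, 0), (25, 6), (20, 5), (16, 4), (13, 3), (11, 2), (1, 1), (39, 5), (32, 4), (17, 3), (14, 2), (2, 1), (34, 4), (28, 3), (23, 2), (43, 4), (44, 5), (8, 6), (7, 5), (8, 5), (41, 5), (28, 4), (23,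 3), (4, 2), (43, 3), (8, 4), (29, 3), (5, 2), (6, 2), (40, 3), (33, 2), (3, 1), (44, 3), (7, 2), (8, 2), (8, 2), (23, 1), (41, 3), (23, 2), (4, 1), (8, 2), (5, 1), (35, 1), (36, 2), (43, 4), (36, 3), (6, 2), (8, 3), (32, 2), (21, 1), (44, 3), (8, 4), (33, 3), (22, 2), (44, 4), (8, 5), (34, 4), (23, 3), (44, 5), (42, 6), (35, 5), (5, 4), (43, 5), (36, 4)]),
    ([1, 0, 0], [(0, 1)], [(9, 0), (24, 6), (19, 5), (15, 4), (12, 3), (10, 2), (9, 1), (0, 0), (25, 0), (39, 2), (26, 1), (8, 3), (27, 2), (41, 4), (28, 3), (42, 5), (29, 4), (43, 6), (6, 5), (39, 5), (21, 4), (17, 3), (14, 2), (2, 1), (34, 4), (28, 3), (23, 2), (43, 4), (44, 5), (8, 6), (35, 5), (29, 4), (5, 3), (8, 5), (34, 4), (28, 3), (4, 2), (35, 3), (29, 2), (36, 4), (6, 3), (33, 3), (22, 2), (3, 1), (42, 3), (35,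 2), (5, 1), (8, 2), (7, 1), (8, 1), (41, 3), (23, 2), (4, 1), (8, 2), (29, 2), (5, 1), (6, 1)]),
    ([2, 2, 0], [(2, 0)], [(10, 1), (10, 0), (26, 4), (21, 3), (17, 2), (2, 1), (42, 2), (8, 3), (41, 4), (28, 3), (23, 2), (4, 1), (43, 2), (8, 3), (29, 2), (5, 1), (6, 1)]),
    ([2, 0, 0], [(0, 1)], [(10, 0), (24, 4), (19, 3), (15, 2), (10, 1), (0, 0), (26, 0), (41, 2), (28, 1), (42, 3), (29, 2), (43, 4), (6, 3), (41, 3), (23, 2), (4, 1), (8, 2), (29, 2), (5, 1), (6, 1)]),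
    ([2, 2, 1], [(2, 0)], [(11, 1), (11, 0), (39, 6), (32, 5), (26, 4), (21, 3), (17, 2), (2, 1), (42, 2), (8, 3), (44, 4), (8, 5), (41, 5), (34, 4), (28, 3), (23, 2), (4, 1), (43, 2), (44, 3), (8, 4), (35, 3), (29, 2), (5, 1), (36, 2), (6, 1), (7, 1), (8, 1)]),
    ([2, 1, 1], [(1, 1), (2, 0)], [(11, 0), (38, 6), (31, 5), (25, 4), (20, 3), (16, 2), (11, 1), (1, 0), (39, 4), (32, 3), (17, 2), (14, 1), (2, 0), (34, 3), (28, 2), (23, 1), (43, 3), (44, 4), (8, 5), (7, 4), (8, 4), (41, 4), (28, 3), (23, 2), (4, 1), (43, 2), (8, 3), (29, 2), (5, 1), (6, 1), (41, 2), (34, 1), (42, 3), (35, 2), (44, 4), (7, 3), (8, 3), (5, 2), (43, 3), (6, 2), (8, 2)]),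
    ([2, 1, 0], [(11, 0), (37, 6), (30, 5), (24, 4), (19, 3), (15, 2), (10, 1), (9, 0), (26, 6), (21, 5), (17, 4), (14, 3), (2, 2), (34, 5), (28, 4), (23, 3), (43, 5), (44, 6), (8, 7), (35, 6), (29, 5), (5, 4), (43, 6), (36, 5), (6, 4), (8, 5), (34, 4), (4, 3), (35, 3), (36, 4), (34, 5), (28, 4), (23, 3), (43, 5), (44, 6), (43, 7), (36, 6), (6, 5), (42, 6), (35, 5), (5, 4), (43, 5), (36, 4), (43, 6), (36, 5), (6, 4), (44, 5), (7, 4), (8, 4), (8, 4)], [(9, 1), (10, 0), (25, 4), (20, 3), (16, 2), (11, 1), (41, 7), (34, 6), (28, 5), (23, 4), (4, 3), (43, 4), (44, 5), (8, 6), (35, 5), (29, 4), (5, 3), (7, 4), (42, 4), (29, 3), (43, 5), (6, 4), (8, 4), (39, 5), (26, 4), (21, 3), (2, 2), (43, 3), (8, 4), (40, 4), (27, 3), (22, 2), (43, 4), (8, 5), (41, 5), (28, 4), (23, 3), (43,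 5), (8, 6), (29, 5), (5, 4), (6, 4)]),
    ([3, 3, 3], [(3, 0), (40, 2), (33, 1), (22, 0), (44, 2), (8, 3)], [(3, 1)]),
    ([3, 3, 0], [(3, 0), (37, 2), (30, 1), (19, 0), (8, 4)], [(12, 1), (12, 0), (40, 4), (22, 3), (18, 2), (3, 1), (41, 3), (34, 2), (23, 1), (44, 3), (8, 4), (36, 3), (42, 5), (35, 4), (29, 3), (5, 2), (8, 4), (41, 4), (34, 3), (28, 2), (4, 1), (42, 3), (35, 2), (29, 1), (8, 4)]),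
    ([3, 0, 0], [(0, 1)], [(12, 0), (37, 4), (19, 3), (15, 2), (12, 1), (0, 0), (27, 0), (41, 2), (28, 1), (42, 3), (29, 2), (8, 4), (28, 3), (23, 2), (4, 1), (43, 2), (43, 3), (6, 2), (42, 2), (5, 1), (43, 1), (8, 2)]),
    ([3, 3, 1], [(3, 0), (38, 2), (31, 1), (20, 0), (44, 3), (8, 4)], [(13, 1), (13, 0), (18, 2), (3, 1), (41, 3), (34, 2), (23, 1), (44, 3), (8, 4), (36, 3), (41, 5), (34, 4), (28, 3), (23, 2), (4, 1), (43, 2), (44, 3), (8, 4)]),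
    ([3, 1, 1], [(1, 1), (14, 0), (33, 4), (27, 3), (22, 2), (3, 1), (42, 3), (35, 2), (5, 1), (8, 2), (36, 1), (44, 3), (7, 2), (8, 2), (41, 2), (28, 1), (44, 3), (8, 4)], [(13, 0), (16, 2), (13, 1), (1, 0), (40, 4), (33, 3), (18, 2), (3, 1), (41, 3), (34, 2), (23, 1), (44, 3), (8, 4), (36, 3), (44, 5), (7, 4), (8, 4), (8, 4), (28, 3), (23, 2), (4, 1), (43, 2), (41, 3), (28, 2), (23, 1), (43, 3), (8, 4), (29, 3), (5, 2)]),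
    ([3, 1, 0], [(13, 0), (15, 2), (12, 1), (9, 0), (27, 6), (22, 5), (18, 4), (3, 3), (41, 5), (34, 4), (23, 3), (44, 5), (8, 6), (36, 5), (42, 7), (35, 6), (29, 5), (5, 4), (8, 6), (36, 5), (6, 4), (41, 5), (34, 4), (4, 3), (42, 4), (35, 3), (8, 5), (34, 4), (23, 3), (44, 5), (43, 6), (36, 5)], [(9, 1), (12, 0), (38, 4), (20, 3), (16, 2), (13, 1), (4, 3), (35, 4), (5, 3), (36, 3), (8, 5), (32, 4), (26, 3), (14, 2), (36, 6), (6, 5), (44, 6), (7, 5), (8, 5), (40, 5), (22, 4), (3, 3), (42, 5), (35, 4), (5, 3), (8, 4), (41, 4), (34, 3), (42, 5), (35, 4), (43, 6), (36, 5)]),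
    ([3, 3, 2], [(3, 0), (39, 2), (32, 1), (21, 0), (44, 2), (8, 3)], [(14, 1), (14, 0), (33, 4), (27, 3), (22, 2), (3, 1), (42, 3), (35, 2), (5, 1), (8, 2), (36, 1), (44, 3), (7, 2), (8, 2), (42, 2), (29, 1), (43, 3), (6, 2), (44, 2)]),
    ([3, 2, 2], [(2, 1)], [(14, 0), (32, 4), (26, 3), (21, 2), (14, 1), (2, 0), (35, 3), (29, 2), (5, 1), (43, 3), (36, 2), (6, 1), (8, 2), (7, 1), (8, 1)]),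
    ([3, 2, 0], [(14, 0), (30, 4), (24, 3), (19, 2), (12, 1), (10, 0), (27, 4), (22, 3), (18, 2), (42, 5), (29, 4), (8, 6), (6, 5), (41, 5), (23, 4), (4, 3), (8, 4), (5, 3), (42, 3), (43, 4), (43, 5), (6, 4), (44, 4), (8, 5)], [(10, 1), (12, 0), (39, 4), (21, 3), (17, 2), (14, 1), (34, 5), (28, 4), (23, 3), (43, 5), (44, 6), (8, 7), (35, 6), (29, 5), (5, 4), (8, 6), (34, 5), (28, 4), (4, 3), (35, 4), (29, 3), (36, 5), (6, 4)]),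
    ([3, 2, 1], [(14, 0), (31, 4), (25, 3), (20, 2), (13, 1), (11, 0), (40, 6), (33, 5), (27, 4), (22, 3), (18, 2), (42, 5), (29, 4), (8, 6), (6, 5), (44, 5), (8, 6), (41, 6), (34, 5), (23, 4), (4, 3), (44, 4), (8, 5), (35, 4), (5, 3), (36, 3), (43, 5), (36, 4), (6, 3), (8, 4), (7, 3)], [(11, 1), (13, 0), (17, 2), (14, 1), (34, 5), (28, 4), (23, 3), (43, 5), (44, 6), (8, 7), (34, 6), (28, 5), (23, 4), (4, 3), (43, 4), (44, 5), (42, 6), (35, 5), (29, 4), (5, 3), (43, 5), (36, 4), (6, 3), (44, 4), (7, 3), (8, 3)]),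
    ([4, 4, 0], [(4, 0)], [(15, 1), (15, 0), (28, 2), (4, 1), (6, 1)]),
    ([4, 4, 1], [(4, 0)], [(16, 1), (16, 0), (34, 3), (23, 2), (4, 1), (44, 2), (42, 3), (35, 2), (5, 1), (44, 2), (7, 1), (8, 1)]),
    ([4, 1, 1], [(1, 1), (17, 0), (40, 2), (18, 1), (8, 4), (28, 3), (4, 2)], [(16, 0), (31, 3), (20, 2), (16, 1), (1, 0), (41, 4), (34, 3), (4, 2), (42, 3), (35, 2), (44, 4), (7, 3), (8, 3), (5, 2), (44, 3)]),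
    ([4, 1, 0], [(16, 0), (30, 3), (19, 2), (15, 1), (9, 0), (28, 6), (23, 5), (4, 4), (43, 5), (43, 6), (6, 5), (42, 5), (5, 4), (43, 4), (44, 5), (8, 6)], [(9, 1), (15, 0), (25, 2), (16, 1), (36, 4), (39, 6), (32, 5), (26, 4), (21, 3), (17, 2), (42, 4), (8, 5), (44, 6), (8, 7), (40, 7), (33, 6), (27, 5), (22, 4), (18, 3), (42, 6), (29, 5), (8, 7), (6, 6), (44, 6), (8, 7), (41, 7), (34, 6), (23, 5), (4, 4), (44, 5), (8, 6), (35, 5), (5, 4), (36, 4)]),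
    ([4, 4, 2], [(4, 0)], [(17, 1), (17, 0), (41, 2), (4, 1), (8, 1)]),
    ([4, 2, 2], [(2, 1)], [(17, 0), (39, 2), (17, 1), (2, 0), (8, 1)]),
    ([4, 2, 0], [(17, 0), (37, 2), (15, 1), (10, 0), (28, 4), (23, 3), (4, 2), (43, 3), (43, 4), (6, 3), (8, 3)], [(10, 1), (15, 0), (26, 2), (17, 1), (43, 3), (8, 4), (28, 3), (4, 2), (29, 2), (6, 3)]),
    ([4, 2, 1], [(17, 0), (38, 2), (16, 1), (11, 0), (41, 6), (34, 5), (28, 4), (23, 3), (4, 2), (43, 3), (44, 4), (8, 5), (35, 4), (29, 3), (5, 2), (7, 3), (8, 3)], [(11, 1), (16, 0), (32, 3), (21, 2), (17, 1), (42, 3), (8, 4), (41, 5), (34, 4), (23, 3), (4, 2), (44, 3), (8, 4), (35, 3), (5, 2), (36, 2), (7, 3), (8, 3)]),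
    ([4, 4, 3], [(4, 0)], [(18, 1), (18, 0), (41, 3), (28, 2), (4, 1), (43, 2), (6, 1), (8, 1)]),
    ([4, 3, 3], [(3, 1)], [(18, 0), (40, 3), (27, 2), (18, 1), (3, 0), (41, 2), (34, 1), (23, 0), (44, 2), (8, 3), (36, 2), (43, 4), (36, 3), (6, 2), (8, 3)]),
    ([4, 3, 0], [(18, 0), (37, 3), (24, 2), (15, 1), (12, 0), (41, 4), (23, 3), (4, 2), (8, 3), (6, 3)], [(12, 1), (15, 0), (27, 2), (18, 1), (43, 4), (6, 3), (8, 3), (4, 2)]),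
    ([4, 3, 1], [(18, 0), (38, 3), (25, 2), (16, 1), (13, 0), (4, 2), (36, 3), (8, 5)], [(13, 1), (16, 0), (33, 3), (22, 2), (18, 1), (42, 4), (29, 3), (8, 5), (41, 6), (34, 5), (28, 4), (23, 3), (4, 2), (43, 3), (44, 4), (8, 5)]),
    ([4, 3, 2], [(18, 0), (39, 3), (26, 2), (17, 1), (14, 0), (34, 4), (28, 3), (23, 2), (43, 4), (44, 5), (8, 6), (36, 5), (6, 4), (8, 5)], [(14, 1), (17, 0), (40, 2), (18, 1), (8, 4), (29, 3), (6, 4)]),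
    ([5, 5, 0], [(5, 0)], [(19, 1), (19, 0), (29, 2), (5, 1), (6, 1)]),
    ([5, 5, 1], [(5, 0)], [(20, 1), (20, 0), (42, 3), (29, 2), (5, 1), (43, 2), (6, 1), (8, 1)]),
    ([5, 1, 1], [(1, 1), (21, 0), (40, 2), (22, 1), (8, 3), (23, 2), (44, 4), (8, 5)], [(20, 0), (38, 3), (25, 2), (20, 1), (1, 0), (42, 4), (35, 3), (43, 5), (36, 4), (8, 6), (36, 5), (6, 4), (8, 5)]),
    ([5, 1, 0], [(20, 0), (37, 3), (24, 2), (19, 1), (9, 0), (29, 6), (5, 5), (6, 5)], [(9, 1), (19, 0), (25, 2), (20, 1), (43, 4), (6, 3), (8, 3), (21, 2), (40, 4), (22, 3), (8, 5), (23, 4), (42, 6), (5, 5), (43, 5)]),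
    ([5, 5, 2], [(5, 0)], [(21, 1), (21, 0), (42, 2), (5, 1), (8, 1)]),
    ([5, 2, 0], [(21, 0), (37, 2), (19, 1), (10, 0), (29, 4), (5, 3), (6, 3)], [(10, 1), (19, 0), (26, 2), (21, 1), (43, 3), (8, 4), (28, 3), (23, 2), (43, 4), (42, 5), (29, 4), (5, 3), (43, 4), (6, 3)]),
    ([5, 2, 1], [(21, 0), (38, 2), (20, 1), (11, 0), (42, 6), (35, 5), (29, 4), (5, 3), (43, 5), (36, 4), (6, 3), (8, 4)], [(11, 1), (20, 0), (39, 3), (26, 2), (21, 1), (43, 3), (8, 4), (41, 4), (28, 3), (23, 2), (43, 4), (8, 5), (29, 4), (5, 3), (6, 3)]),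
    ([5, 3, 3], [(3, 1), (5, 0)], [(22, 0), (40, 2), (22, 1), (3, 0), (42, 2), (35, 1), (5, 0), (8, 1)]),
    ([5, 3, 0], [(22, 0), (37, 2), (19, 1), (12, 0), (42, 4), (5, 3), (43, 3), (8, 4)], [(12, 1), (19, 0), (27, 2), (22, 1), (43, 3), (8, 4), (28, 3), (23, 2), (43, 4), (42, 5), (29, 4), (5, 3), (8, 4)]),
    ([5, 3, 1], [(22, 0), (38, 2), (20, 1), (13, 0), (8, 5)], [(13, 1), (20, 0), (40, 3), (27, 2), (22, 1), (43, 3), (8, 4), (41, 4), (28, 3), (23, 2), (43, 4), (8, 5)]),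
    ([5, 3, 2], [(22, 0), (39, 2), (21, 1), (14, 0), (35, 4), (29, 3), (5, 2), (8, 4)], [(14, 1), (21, 0), (40, 2), (22, 1), (8, 3), (5, 2)]),
    ([5, 4, 0], [(23, 0), (37, 2), (19, 1), (15, 0), (29, 2), (6, 3)], [(15, 1), (19, 0), (28, 2), (23, 1), (43, 3), (43, 4), (6, 3)]),
    ([5, 4, 1], [(23, 0), (38, 2), (20, 1), (16, 0), (35, 3), (5, 2), (36, 2), (8, 4)], [(16, 1), (20, 0), (41, 3), (28, 2), (23, 1), (43, 3), (8, 4), (29, 3), (5, 2)]),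
    ([5, 4, 2], [(23, 0), (39, 2), (21, 1), (17, 0), (42, 2), (8, 3)], [(17, 1), (21, 0), (41, 2), (23, 1), (8, 3)]),
    ([5, 4, 3], [(23, 0), (40, 2), (22, 1), (18, 0), (42, 3), (29, 2), (8, 4)], [(18, 1), (22, 0), (41, 2), (23, 1), (8, 3)]),
    ([6, 1, 1], [(1, 1), (26, 0), (40, 2), (27, 1), (8, 3), (28, 2)], [(25, 0), (38, 2), (25, 1), (1, 0), (43, 4), (36, 3), (8, 5)]),
    ([6, 1, 0], [(25, 0), (37, 2), (24, 1), (9, 0), (6, 6)], [(9, 1), (24, 0), (25, 1), (39, 3), (26, 2), (8, 4), (27, 3), (41, 5), (28, 4), (42, 6), (29, 5), (43, 7), (6, 6)]),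
    ([6, 2, 1], [(26, 0), (38, 2), (25, 1), (11, 0), (43, 6), (36, 5), (6, 4), (8, 5)], [(11, 1), (25, 0), (39, 2), (26, 1), (8, 3), (28, 2), (29, 3), (6, 4)]),
    ([6, 3, 3], [(3, 1), (29, 0)], [(27, 0), (40, 2), (27, 1), (3, 0), (43, 2), (36, 1), (8, 3)]),
    ([6, 3, 2], [(27, 0), (39, 2), (26, 1), (14, 0), (36, 4), (6, 3), (8, 4)], [(14, 1), (26, 0), (40, 2), (27, 1), (8, 3), (29, 2), (6, 3)]),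
    ([6, 4, 1], [(28, 0), (25, 1), (16, 0), (36, 3)], [(16, 1), (25, 0), (41, 2), (28, 1), (42, 3), (29, 2), (44, 4)]),
    ([6, 4, 2], [(28, 0), (26, 1), (17, 0), (43, 2), (8, 3)], [(17, 1), (26, 0), (41, 2), (28, 1), (8, 3)]),
    ([6, 4, 3], [(28, 0), (27, 1), (18, 0), (43, 3), (6, 2), (8, 2)], [(18, 1), (27, 0), (41, 2), (28, 1), (43, 3), (6, 2), (8, 2)]),
    ([6, 5, 1], [(29, 0), (25, 1), (20, 0), (43, 3), (6, 2), (8, 2)], [(20, 1), (25, 0), (42, 2), (29, 1), (43, 3), (6, 2), (8, 2)]),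
    ([7, 7, 0], [(7, 0), (37, 0)], [(30, 1), (30, 0), (44, 2), (7, 1), (8, 1)]),
    ([7, 7, 1], [(7, 0), (38, 0)], [(31, 1), (31, 0), (7, 1)]),
    ([7, 1, 1], [(1, 1), (32, 0), (40, 2), (33, 1), (8, 3), (34, 2), (7, 3), (8, 3)], [(31, 0), (31, 1), (1, 0), (44, 4), (7, 3), (8, 3)]),
    ([7, 2, 0], [(32, 0), (37, 2), (30, 1), (10, 0), (8, 6)], [(10, 1), (30, 0), (39, 2), (32, 1), (8, 3), (34, 2), (35, 3), (36, 4)]),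
    ([7, 4, 1], [(34, 0), (31, 1), (16, 0), (7, 3)], [(16, 1), (31, 0), (34, 1), (35, 2), (7, 3)])]
  fuses := [
    ⟨0, [0, 0], [], [(30, 4), (24, 3), (15, 2), (9, 1), (0, 0), (25, 0), (39, 2), (26, 1), (8, 3), (27, 2), (41, 4), (28, 3), (42, 5), (29, 4), (43, 6), (6, 5), (41, 5), (23, 4), (4, 3), (8, 4), (6, 4), (38, 5), (31, 4), (20, 3), (13, 2), (11, 1), (1, 0), (39, 4), (32, 3), (17, 2), (14, 1), (2, 0), (34, 3), (28, 2), (23, 1), (43, 3), (44, 4), (8, 5), (7, 4), (8, 4), (41, 4), (28, 3), (23, 2), (4, 1), (43, 2), (8, 3), (29, 2), (5, 1), (6, 1), (40, 2), (33, 1), (3, 0), (44, 2), (7, 1), (8, 1), (8, 1), (23, 0), (42, 2), (5, 1), (43, 1), (8, 2), (41, 3), (34, 2), (28, 1), (4, 0), (43, 2), (36, 1), (6, 0), (44, 1), (7, 0), (8, 0)], [], [(32, 4), (26, 3), (17, 2), (14,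 1), (2, 0), (34, 3), (28, 2), (23, 1), (43, 3), (44, 4), (8, 5), (36, 4), (6, 3), (44, 4), (7, 3), (8, 3), (40, 3), (22, 2), (18, 1), (3, 0), (41, 2), (34, 1), (23, 0), (44, 2), (8, 3), (36, 2), (42, 4), (35, 3), (29, 2), (5, 1), (8, 3), (41, 3), (34, 2), (28, 1), (4, 0), (43, 2), (36, 1), (6, 0), (44, 1), (7, 0), (8, 0)], []⟩,
    ⟨0, [2, 0], [0, 2], [(37, 0), (38, 1), (41, 2), (43, 3), (44, 4)], [], [(26, 4), (14, 3), (2, 2), (36, 5), (6, 4), (40, 5), (33, 4), (22, 3), (3, 2), (42, 4), (35, 3), (5, 2), (8, 3), (7, 2), (8, 2), (41, 2), (43, 3), (44, 4)], [(30, 4), (24, 3), (15, 2), (12, 1), (10, 0), (27, 4), (22, 3), (18, 2), (42, 5), (29, 4), (8, 6), (6, 5), (41, 5), (23, 4), (4, 3), (8, 4), (5, 3), (41, 3), (43, 4), (43, 5), (6, 4), (44, 4), (8, 5), (31, 4), (16, 3),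 (13, 2), (11, 1), (40, 7), (33, 6), (27, 5), (22, 4), (18, 3), (42, 6), (29, 5), (8, 7), (6, 6), (44, 6), (8, 7), (41, 7), (34, 6), (23, 5), (4, 4), (44, 5), (8, 6), (34, 5), (23, 4), (44, 6), (42, 7), (35, 6), (5, 5), (44, 6), (7, 5), (8, 5), (32, 5), (17, 4), (14, 3), (2, 2), (34, 5), (28, 4), (23, 3), (43, 5), (44, 6), (8, 7), (7, 6), (8, 6), (27, 5), (22, 4), (18, 3), (3, 2), (41, 4), (34, 3), (23, 2), (44, 4), (8, 5), (36, 4), (42, 6), (35, 5), (29, 4), (5, 3), (8, 5), (36, 4), (6, 3), (43, 4), (36, 3)]⟩,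
    ⟨1, [0, 0], [5], [(0, 0)], [], [(0, 0)], []⟩,
    ⟨1, [1, 0], [0, 1, 2, 4, 5, 6, 7], [(12, 1), (9, 0), (27, 6), (22, 5), (18, 4), (3, 3), (41, 5), (34, 4), (23, 3), (44, 5), (8, 6), (36, 5), (42, 7), (35, 6), (29, 5), (5, 4), (8, 6), (36, 5), (6, 4), (41, 5), (34, 4), (4, 3), (42, 4), (35, 3), (8, 5)], [(14, 2), (33, 6), (27, 5), (22, 4), (3, 3), (42, 5), (35, 4), (5, 3), (8, 4), (36, 3), (44, 5), (7, 4), (8, 4), (42, 4), (29, 3), (43, 5), (6, 4), (44, 4), (8, 5)], [(37, 6), (30, 5), (24, 4), (19, 3), (10, 2), (9, 1), (0, 0), (25, 0), (39, 2), (26, 1), (8, 3), (27, 2), (41, 4), (28, 3), (42, 5), (29, 4), (43, 6), (6, 5), (39, 5), (21, 4), (17, 3), (14, 2), (2, 1), (34, 4), (28, 3), (23, 2), (43, 4), (44, 5), (8, 6), (35, 5), (29, 4), (5, 3), (8, 5), (34, 4), (28, 3),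 (4, 2), (35, 3), (29, 2), (36, 4), (6, 3), (35, 3), (5, 2), (36, 2), (36, 3), (6, 2), (7, 2), (8, 2)], [(0, 0), (25, 0), (39, 2), (26, 1), (8, 3), (29, 2), (6, 3), (42, 4), (35, 3), (5, 2), (44, 3), (7, 2), (8, 2), (26, 3), (21, 2), (2, 1), (43, 2), (8, 3), (27, 2), (22, 1), (43, 3), (8, 4), (29, 3), (5, 2), (6, 2)]⟩,
    ⟨1, [2, 0], [0, 2, 7], [(12, 1), (10, 0), (27, 4), (22, 3), (18, 2), (42, 5), (29, 4), (8, 6), (6, 5), (41, 5), (23, 4), (4, 3), (8, 4), (5, 3)], [], [(30, 1), (19, 0)], [(36, 2)]⟩,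
    ⟨1, [3, 0], [0, 3, 5], [(15, 0)], [], [(30, 5), (24, 4), (15, 3), (12, 2), (10, 1), (0, 0), (26, 0), (41, 2), (28, 1), (42, 3), (29, 2), (43, 4), (6, 3), (40, 3), (22, 2), (18, 1), (42, 4), (29, 3), (8, 5), (41, 5), (28, 4), (23, 3), (4, 2), (43, 3), (8, 4), (29, 3), (5, 2), (41, 3), (28, 2), (43, 4), (6, 3), (43, 3), (44, 4), (8, 5)], [(0, 0), (26, 0), (40, 2), (27, 1), (8, 3), (28, 2), (6, 3), (36, 3)]⟩,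
    ⟨1, [4, 0], [0, 4, 5], [(19, 0)], [], [(19, 0)], []⟩,
    ⟨1, [1, 1], [2, 4, 5, 7], [(13, 1), (1, 0), (40, 4), (33, 3), (18, 2), (3, 1), (41, 3), (34, 2), (23, 1), (44, 3), (8, 4), (36, 3), (44, 5), (7, 4), (8, 4), (8, 4), (28, 3), (23, 2), (4, 1), (43, 2), (40, 3), (27, 2), (22, 1), (43, 3), (8, 4)], [], [(37, 6), (30, 5), (24, 4), (19, 3), (10, 2), (9, 1), (0, 0), (25, 0), (39, 2), (26, 1), (8, 3), (27, 2), (41, 4), (28, 3), (42, 5), (29, 4), (43, 6), (6, 5), (39, 5), (21, 4), (17, 3), (14, 2), (2, 1), (34, 4), (28, 3), (23, 2), (43, 4), (44, 5), (8, 6), (35, 5), (29, 4), (5, 3), (8, 5), (34, 4), (28, 3), (4, 2), (35, 3), (29, 2), (36, 4), (6, 3), (35, 3), (5, 2), (36, 2), (36, 3), (6, 2), (7, 2), (8, 2), (38, 2), (13, 1), (1, 0), (40, 4), (33, 3), (18, 2), (3, 1),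 (41, 3), (34, 2), (23, 1), (44, 3), (8, 4), (36, 3), (44, 5), (7, 4), (8, 4), (8, 4), (28, 3), (23, 2), (4, 1), (43, 2), (8, 3), (26, 2), (21, 1), (2, 0), (43, 1), (8, 2), (29, 1), (5, 0), (6, 0)], [(35, 1), (5, 0), (36, 0), (36, 1), (6, 0)]⟩,
    ⟨1, [2, 1], [1, 2, 5, 7], [(13, 1), (11, 0), (40, 6), (33, 5), (27, 4), (22, 3), (18, 2), (42, 5), (29, 4), (8, 6), (6, 5), (44, 5), (8, 6), (41, 6), (34, 5), (23, 4), (4, 3), (44, 4), (8, 5), (33, 4), (22, 3), (3, 2), (42, 4), (35, 3), (5, 2), (8, 3), (7, 2), (8, 2)], [(14, 1), (33, 5), (27, 4), (22, 3), (3, 2), (42, 4), (35, 3), (5, 2), (8, 3), (36, 2), (44, 4), (7, 3), (8, 3), (43, 3), (6, 2), (8, 2)], [(30, 1), (19, 0), (38, 4), (31, 3), (25, 2), (20, 1), (43, 4), (6, 3), (8, 3), (39, 4), (32, 3), (21, 2), (44, 4), (8, 5),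 (42, 5), (35, 4), (5, 3), (43, 4), (36, 3), (44, 5), (7, 4), (8, 4)], [(42, 6), (35, 5), (29, 4), (5, 3), (44, 5), (7, 4), (8, 4), (6, 3)]⟩,
    ⟨1, [4, 1], [1, 4, 5, 7], [(20, 0), (40, 3), (27, 2), (22, 1), (43, 3), (8, 4)], [], [(19, 0), (25, 2), (20, 1), (43, 4), (6, 3), (8, 3), (21, 2), (42, 4), (5, 3), (43, 3), (44, 4), (8, 5)], [(42, 6), (35, 5), (29, 4), (5, 3), (43, 5), (36, 4), (6, 3), (43, 4), (36, 3), (8, 5)]⟩,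
    ⟨1, [6, 1], [1, 6, 7], [(31, 0), (33, 1)], [], [(19, 2), (12, 1), (10, 0), (27, 4), (22, 3), (18, 2), (42, 5), (29, 4), (8, 6), (6, 5), (41, 5), (23, 4), (4, 3), (8, 4), (5, 3), (42, 3), (43, 4), (38, 5), (25, 4), (20, 3), (13, 2), (11, 1), (40, 7), (33, 6), (27, 5), (22, 4), (18, 3), (42, 6), (29, 5), (8, 7), (6, 6), (44, 6), (8, 7), (41, 7), (34, 6), (23, 5), (4, 4), (44, 5), (8, 6), (35, 5), (5, 4), (36, 4), (43, 6), (36, 5), (6, 4), (8, 5), (39, 5), (32, 4), (14, 3), (2, 2), (7, 5), (8, 5), (42, 5), (29, 4), (5, 3), (43, 4), (6, 3), (44, 3), (8, 4)], [(39, 6), (32, 5), (26, 4), (21, 3), (2, 2), (43, 3), (8, 4), (8, 5), (33, 4), (27, 3), (22, 2), (43, 4), (8, 5), (42, 6), (35, 5), (29, 4), (5, 3), (43, 5), (36, 4), (6, 3), (8, 4)]⟩,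
    ⟨1, [3, 2], [2, 3, 5], [(17, 0), (40, 2), (18, 1), (8, 4)], [], [(35, 5), (29, 4), (7, 6)], [(30, 1), (19, 0), (39, 4), (32, 3), (26, 2), (21, 1), (43, 3), (8, 4), (8, 5), (33, 4), (27, 3), (22, 2), (43, 4), (8, 5), (41, 6), (34, 5), (28, 4), (23, 3), (43, 5), (44, 6), (8, 7), (36, 6), (6, 5), (7, 5), (43, 5)]⟩,
    ⟨1, [4, 2], [2, 4], [(21, 0), (40, 2), (22, 1), (8, 3)], [], [(5, 0)], [(35, 1), (5, 0)]⟩,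
    ⟨1, [3, 3], [], [(4, 0)], [], [(30, 5), (24, 4), (15, 3), (12, 2), (10, 1), (0, 0), (26, 0), (41, 2), (28, 1), (42, 3), (29, 2), (43, 4), (6, 3), (40, 3), (22, 2), (18, 1), (42, 4), (29, 3), (8, 5), (41, 5), (28, 4), (23, 3), (4, 2), (43, 3), (8, 4), (29, 3), (5, 2), (41, 3), (28, 2), (43, 4), (6, 3), (43, 3), (44, 4), (8, 5), (32, 4), (26, 3), (17, 2), (14, 1), (2, 0), (34, 3), (28, 2), (23, 1), (43, 3), (44, 4), (8, 5), (36, 4), (6, 3), (44, 4), (7, 3), (8, 3), (40, 3), (22, 2), (18, 1), (3, 0), (41, 2), (34, 1), (23, 0), (44, 2), (8, 3), (36, 2), (42, 4), (35, 3), (29, 2), (5, 1), (8, 3), (41, 3), (34, 2), (28, 1), (4, 0), (43, 2), (36, 1), (6, 0), (44, 1), (7, 0), (8, 0)], []⟩,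
    ⟨1, [5, 3], [3, 5], [(28, 0)], [], [(24, 0), (26, 1), (40, 3), (27, 2), (8, 4), (28, 3), (6, 4)], [(36, 5), (6, 4)]⟩,
    ⟨1, [6, 3], [3, 6], [(34, 0)], [], [(19, 2), (12, 1), (10, 0), (27, 4), (22, 3), (18, 2), (42, 5), (29, 4), (8, 6), (6, 5), (41, 5), (23, 4), (4, 3), (8, 4), (5, 3), (42, 3), (43, 4), (39, 5), (26, 4), (21, 3), (14, 2), (2, 1), (35, 4), (29, 3), (5, 2), (43, 4), (36, 3), (6, 2), (8, 3), (40, 3), (33, 2), (3, 1), (44, 3), (7, 2), (8, 2), (8, 2), (23, 1), (43, 3), (44, 4)], [(32, 5), (26, 4), (17, 3), (14, 2), (2, 1), (34, 4), (28, 3), (23, 2), (43, 4), (44, 5), (8, 6), (36, 5), (6, 4), (44, 5), (7, 4), (8, 4), (40, 4), (22, 3), (18, 2), (3, 1), (41, 3), (34, 2), (23, 1), (44, 3), (8, 4), (36, 3), (42, 5), (35, 4), (29, 3), (5, 2), (8, 4), (42, 4),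 (35, 3), (29, 2)]⟩,
    ⟨2, [0, 0], [], [(24, 3), (15, 2), (9, 1), (0, 0), (25, 0), (39, 2), (26, 1), (8, 3), (27, 2), (41, 4), (28, 3), (42, 5), (29, 4), (43, 6), (6, 5), (41, 5), (23, 4), (4, 3), (8, 4), (6, 4), (20, 3), (13, 2), (11, 1), (1, 0), (39, 4), (32, 3), (17, 2), (14, 1), (2, 0), (34, 3), (28, 2), (23, 1), (43, 3), (44, 4), (8, 5), (7, 4), (8, 4), (41, 4), (28, 3), (23, 2), (4, 1), (43, 2), (8, 3), (29, 2), (5, 1), (6, 1), (40, 2), (33, 1), (3, 0), (44, 2), (7, 1), (8, 1), (8, 1), (23, 0), (42, 2), (5, 1), (43, 1), (8, 2), (28, 1), (4, 0), (6, 0)], [], [(29, 1), (5, 0), (6, 0)], []⟩,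
    ⟨3, [0, 0], [4, 5, 6], [(9, 1), (0, 0), (25, 0), (39, 2), (26, 1), (8, 3), (27, 2), (41, 4), (28, 3), (42, 5), (29, 4), (43, 6), (6, 5), (38, 5), (20, 4), (16, 3), (13, 2), (11, 1), (1, 0), (39, 4), (32, 3), (17, 2), (14, 1), (2, 0), (34, 3), (28, 2), (23, 1), (43, 3), (44, 4), (8, 5), (7, 4), (8, 4), (41, 4), (28, 3), (23, 2), (4, 1), (43, 2), (8, 3), (29, 2), (5, 1), (6, 1), (40, 2), (33, 1), (3, 0), (44, 2), (7, 1), (8, 1), (8, 1), (23, 0), (41, 2), (23, 1), (4, 0), (8, 1), (5, 0), (35, 0), (36, 1), (8, 3)], [], [(33, 4), (27, 3), (22, 2), (18, 1), (3, 0), (41, 2), (34, 1), (23, 0), (44, 2), (8, 3), (36, 2), (42, 4), (35, 3), (29, 2), (5, 1), (8, 3), (36, 2), (6, 1), (44, 2), (7, 1), (8, 1), (41, 1), (4, 0), (42, 0), (43, 1), (44, 2)], [(5, 0), (42, 1), (29, 0), (44,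 2)]⟩,
    ⟨3, [2, 0], [0, 2, 5, 6], [(12, 0), (38, 4), (20, 3), (16, 2), (13, 1), (4, 3), (35, 4), (5, 3), (36, 3), (8, 5)], [], [(33, 5), (27, 4), (22, 3), (43, 5), (8, 6), (41, 7), (34, 6), (28, 5), (23, 4), (43, 6), (44, 7), (8, 8), (35, 7), (29, 6), (5, 5), (36, 6), (6, 5), (7, 5)], [(30, 4), (24, 3), (19, 2), (15, 1), (12, 0), (41, 4), (23, 3), (4, 2), (8, 3), (29, 3), (5, 2), (6, 2), (38, 4), (31, 3), (25, 2), (13, 1), (44, 5), (8, 6), (32, 5), (26, 4), (17, 3), (14, 2), (34, 6), (28, 5), (23, 4), (43, 6), (44, 7), (8, 8), (36, 7), (6, 6), (44, 7), (7, 6), (8, 6), (42, 6), (5, 5), (43, 5), (44, 6), (42, 7), (35, 6), (29, 5), (43, 8), (36, 7), (6, 6), (8, 7), (35, 6), (5, 5), (7, 5)]⟩,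
    ⟨3, [3, 0], [0, 3, 4, 5, 6, 7], [(15, 0), (25, 2), (16, 1), (36, 4)], [], [(40, 1), (41, 2), (42, 3), (43, 4), (44, 5)], [(32, 4), (26, 3), (21, 2), (17, 1), (14, 0), (34, 4), (28, 3), (23, 2), (43, 4), (44, 5), (8, 6), (35, 5), (29, 4), (5, 3), (43, 5), (36, 4), (6, 3), (8, 4), (7, 3), (8, 3), (42, 3), (42, 4), (5, 3), (43, 3), (8, 4), (29, 3)]⟩,
    ⟨3, [6, 0], [0, 6, 7], [(30, 0), (38, 2), (31, 1)], [], [(33, 1), (22, 0), (44, 2), (8, 3), (34, 2), (23, 1), (44, 3), (42, 4), (35, 3), (5, 2), (43, 3), (36, 2), (44, 4), (7, 3), (8, 3)], [(35, 4), (29, 3), (5, 2), (7, 3), (8, 3)]⟩,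
    ⟨3, [1, 1], [], [(2, 0)], [], [(41, 1), (4, 0), (8, 0)], []⟩,
    ⟨3, [2, 1], [1, 2, 4, 5, 6], [(14, 0)], [], [(34, 5), (28, 4), (23, 3), (43, 5), (44, 6), (8, 7)], [(37, 1), (15, 0), (38, 3), (25, 2), (16, 1), (36, 4), (8, 6), (32, 5), (26, 4), (21, 3), (17, 2), (42, 4), (8, 5), (44, 6), (8, 7), (35, 6), (29, 5), (5, 4), (36, 5), (6, 4), (7, 4), (42, 4), (42, 5), (5, 4), (43, 4), (8, 5), (29, 4)]⟩,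
    ⟨3, [3, 1], [1, 3, 7], [(17, 0)], [], [(41, 1), (8, 2)], [(39, 1), (17, 0), (8, 2), (8, 2)]⟩,
    ⟨3, [5, 1], [1, 5, 7], [(26, 0)], [], [(41, 2), (28, 1), (23, 0), (43, 2), (8, 3)], [(42, 1), (43, 2), (8, 3)]⟩,
    ⟨3, [3, 2], [2, 3, 5, 7], [(18, 0)], [], [(37, 1), (10, 0), (38, 5), (25, 4), (20, 3), (16, 2), (11, 1), (41, 7), (34, 6), (28, 5), (23, 4), (4, 3), (43, 4), (44, 5), (8, 6), (35, 5), (29, 4), (5, 3), (7, 4), (42, 4), (29, 3), (43, 5), (6, 4), (8, 4), (8, 5), (26, 4), (21, 3), (2, 2), (43, 3), (8, 4), (29, 3), (5, 2), (6, 2)], [(32, 5), (26, 4), (21, 3), (2, 2), (43, 3), (8, 4), (8, 5), (35, 4), (29, 3), (5, 2), (36, 3), (6, 2), (8, 3)]⟩,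
    ⟨3, [6, 2], [2, 6, 7], [(33, 0)], [], [(30, 1), (19, 0), (38, 4), (31, 3), (25, 2), (20, 1), (43, 4), (6, 3), (8, 3), (39, 4), (32, 3), (21, 2), (44, 4), (8, 5), (42, 5), (35, 4), (5, 3), (43, 4), (36, 3), (44, 5), (7, 4), (8, 4)], [(35, 5), (29, 4), (5, 3), (7, 4), (8, 4)]⟩,
    ⟨3, [5, 3], [3, 5], [(28, 0)], [], [(39, 2), (26, 1), (21, 0), (43, 2), (8, 3), (8, 3)], [(42, 1), (43, 2), (8, 3)]⟩,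
    ⟨3, [5, 5], [], [(6, 0)], [], [(42, 2), (29, 1), (5, 0), (43, 1), (6, 0), (8, 0)], []⟩,
    ⟨3, [6, 6], [7], [(7, 0)], [], [(35, 1), (5, 0), (7, 0)], []⟩]
  adj := [
    [(9, 1), (11, 1), (20, 1), (57, 1)],
    [(57, 1), (72, 1), (73, 1), (77, 1)],
    [(1, 1), (11, 3), (13, 3), (16, 3), (17, 3), (18, 3), (21, 3), (55, 2), (60, 3), (72, 2), (73, 1), (77, 2), (78, 3)],
    [(9, 1), (18, 1), (73, 1), (78, 1)],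
    [(13, 1)],
    [(9, 1), (11, 3), (21, 3), (55, 2), (57, 2), (60, 3)],
    [(0, 2), (4, 2), (6, 2), (7, 2), (8, 2), (9, 2), (10, 2), (14, 2), (15, 1), (17, 2), (19, 2), (22, 2), (23, 2), (24, 2), (25, 2), (28, 2), (30, 2), (36, 2), (37, 2), (38, 2), (40, 2), (41, 2), (42, 2), (44, 2), (56, 2), (58, 2), (59, 2), (61, 2)],
    [(9, 3), (11, 1), (16, 1), (21, 1), (55, 2), (57, 2), (60, 1)],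
    [(17, 1)]]
  base := [
    ([(31, 1)], 2, [(0, 1), (1, 3), (2, 1), (3, 3), (4, 2), (5, 1), (7, 2), (8, 2), (11, 3), (13, 2), (15, 2), (17, 2), (18, 1), (22, 3), (24, 2), (25, 1), (26, 1), (29, 1), (33, 3), (34, 2), (36, 2), (40, 1), (43, 3), (53, 3), (58, 2), (60, 1), (61, 2), (65, 2), (71, 2), (78, 2), (82, 2), (83, 2)])]
  dense := [
    [0, 0, 0, 0, 0, 0, 0, 0, 0, 0, 0, 0, 0, 0, 0, 0, 0, 0, 0, 0, 0, 0, 0, 0, 1],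
    [0, 0, 0, 0, 1, 1, 1, 1, 0, 0, 0, 1, 0, 1, 0, 0, 1, 0, 1, 0, 0, 0, 1, 2, 0, 0, 0, 1, 0, 1, 0, 1, 0, 1, 2, 1, 0, 0, 1, 0, 1, 1, 2],
    [0, 0, 3, 3, 3, 2, 3, 2, 2, 2, 1, 3, 1, 3, 3, 1, 3, 3, 1, 0, 3, 3, 0, 0, 0, 3, 0, 1, 2, 0, 1, 0, 2, 2, 2, 2, 1, 1, 0, 3, 3, 0, 0, 1],
    [0, 0, 3, 3, 2, 1, 1, 3, 2, 2, 3, 0, 3, 0, 3, 3, 0, 3, 0, 3, 0, 3, 3, 2, 3, 3, 3, 3, 1, 0, 0, 0, 0, 3, 2, 1, 3, 0, 0, 2, 0, 2, 2, 2, 3],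
    [0, 0, 0, 0, 3, 3, 3, 0, 2, 0, 2, 0, 0, 0, 0, 0, 0, 3, 0, 0, 0, 3, 0, 3, 0, 0, 3, 0, 3, 3, 0, 0, 0, 0, 0, 0, 0, 0, 0, 0, 0, 3, 3, 3],
    [0, 0, 0, 0, 3, 3, 2, 0, 3, 0, 2, 0, 0, 0, 0, 3, 0, 0, 0, 3, 0, 0, 0, 3, 3, 0, 3, 0, 3, 2, 0, 0, 0, 0, 0, 0, 0, 0, 0, 0, 0, 2, 3, 3],
    [0, 0, 0, 0, 3, 3, 3, 3, 0, 0, 0, 2, 0, 0, 0, 0, 0, 3, 0, 0, 0, 3, 0, 3, 0, 0, 3, 0, 3, 3, 0, 0, 3, 0, 3, 3, 3, 0, 0, 3, 0, 3, 3, 3, 2],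
    [0, 0, 0, 0, 3, 2, 2, 2, 3, 0, 0, 2, 0, 0, 3, 0, 3, 3, 0, 0, 3, 0, 0, 2, 0, 3, 0, 0, 2, 3, 0, 3, 3, 0, 2, 3, 0, 0, 3, 3, 0, 2, 3, 1, 2],
    [0, 0, 0, 0, 0, 0, 1, 0, 3, 0, 0, 0, 0, 0, 1, 1, 3, 1, 0, 1, 3, 0, 3, 0, 1, 3, 0, 3, 0, 2, 1, 0, 0, 0, 2, 2, 1, 1, 0, 3, 3, 2, 0, 1, 2],
    [0, 0, 0, 0, 0, 0, 0, 0, 1, 0, 0, 0, 0, 0, 0, 0, 0, 0, 0, 0, 0, 0, 1, 0, 0, 0, 0, 0, 0, 0, 0, 0, 0, 1, 0, 0, 0, 0, 0, 0, 1, 0, 0, 0, 1],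
    [0, 0, 0, 0, 3, 3, 0, 0, 2, 0, 0, 0, 2, 0, 0, 0, 0, 0, 3, 1, 0, 0, 3, 3, 0, 0, 0, 0, 3, 2, 1, 0, 0, 0, 2, 2, 3, 1, 0, 0, 3, 2, 2, 0, 3],
    [0, 0, 0, 0, 3, 3, 3, 0, 2, 0, 0, 0, 2, 0, 0, 3, 0, 0, 0, 3, 0, 0, 0, 3, 0, 0, 0, 3, 2, 3, 0, 0, 0, 0, 0, 0, 0, 3, 0, 0, 0, 3, 2, 1],
    [0, 0, 0, 0, 3, 0, 0, 0, 3, 0, 0, 0, 0, 2, 0, 0, 0, 0, 3, 0, 1, 0, 0, 2, 0, 0, 0, 0, 3, 0, 0, 1, 0, 0, 2, 0, 3, 0, 1, 0, 0, 2, 0, 3, 3],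
    [0, 0, 0, 0, 3, 0, 0, 0, 3, 0, 0, 0, 0, 2, 1, 0, 3, 0, 3, 0, 0, 0, 1, 1, 0, 0, 0, 1, 3, 3, 0, 0, 0, 0, 3, 1, 0, 0, 0, 0, 3, 3, 1, 2],
    [0, 0, 0, 0, 0, 3, 0, 3, 0, 0, 0, 0, 0, 0, 3, 1, 3, 0, 1, 0, 3, 0, 0, 2, 0, 0, 3, 1, 0, 1, 0, 0, 3, 0, 2, 3, 0, 0, 3, 0, 3, 1, 0, 0, 1],
    [0, 0, 0, 0, 0, 3, 3, 3, 3, 0, 0, 0, 0, 0, 2, 0, 0, 0, 0, 0, 0, 1, 3, 0, 0, 0, 0, 3, 0, 3, 0, 0, 1, 3, 0, 3, 3, 0, 0, 1, 0, 0, 2, 3, 3],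
    [0, 0, 0, 0, 0, 3, 3, 3, 2, 0, 0, 0, 0, 0, 2, 0, 0, 0, 0, 0, 0, 3, 0, 0, 0, 0, 3, 0, 0, 3, 0, 0, 3, 0, 0, 3, 3, 0, 0, 0, 0, 0, 0, 3],
    [0, 0, 0, 0, 0, 0, 1, 0, 1, 0, 0, 0, 0, 0, 0, 0, 0, 3, 1, 1, 0, 3, 1, 0, 1, 0, 0, 1, 2, 3, 1, 0, 0, 0, 2, 2, 3, 0, 0, 3, 0, 1, 2, 1],
    [0, 0, 0, 0, 0, 0, 1, 0, 2, 0, 0, 0, 0, 0, 0, 0, 0, 3, 1, 0, 1, 0, 1, 3, 0, 1, 0, 1, 2, 0, 0, 1, 0, 1, 3, 0, 1, 0, 0, 0, 1, 1, 0, 2, 3],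
    [0, 0, 0, 0, 0, 0, 3, 0, 0, 0, 0, 0, 0, 0, 0, 2, 0, 0, 0, 0, 0, 0, 0, 0, 0, 0, 0, 0, 3],
    [0, 0, 0, 0, 0, 3, 0, 3, 3, 0, 0, 0, 0, 0, 0, 0, 2, 0, 0, 0, 0, 0, 0, 3, 0, 0, 0, 0, 0, 0, 0, 0, 0, 0, 3, 3, 0, 0, 0, 0, 0, 0, 3, 0, 2],
    [0, 0, 0, 0, 0, 3, 0, 3, 0, 0, 0, 0, 0, 0, 0, 0, 2, 1, 1, 0, 3, 0, 0, 0, 0, 0, 0, 0, 1, 0, 0, 3, 0, 0, 3, 3, 0, 0, 0, 0, 1, 3, 3, 0, 2],
    [0, 0, 0, 0, 0, 0, 0, 0, 0, 0, 0, 0, 0, 0, 0, 0, 0, 3, 3, 1, 0, 3, 3, 0, 0, 3, 3, 3, 1, 3, 1, 0, 3, 3, 3, 3, 2, 0, 0, 3, 3, 3, 3, 3, 2],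
    [0, 0, 0, 0, 0, 0, 0, 0, 3, 0, 0, 0, 0, 0, 0, 0, 0, 2, 0, 0, 0, 0, 0, 0, 0, 0, 0, 0, 0, 0, 0, 0, 0, 0, 0, 0, 0, 0, 0, 0, 0, 3],
    [0, 0, 0, 0, 0, 0, 0, 0, 3, 0, 0, 0, 0, 0, 0, 0, 0, 2, 0, 0, 0, 0, 0, 0, 0, 0, 0, 0, 0, 0, 0, 0, 0, 0, 0, 0, 0, 0, 0, 3],
    [0, 0, 0, 0, 0, 0, 0, 0, 0, 0, 0, 0, 0, 0, 0, 0, 0, 0, 0, 0, 0, 0, 0, 1, 0, 0, 3, 0, 0, 3, 0, 0, 0, 0, 0, 0, 0, 1, 0, 0, 0, 0, 0, 1],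
    [0, 0, 0, 0, 0, 0, 0, 0, 3, 0, 0, 0, 0, 0, 0, 0, 0, 0, 0, 0, 0, 3, 0, 0, 0, 0, 0, 0, 1, 1, 0, 0, 3, 0, 0, 0, 3, 0, 1, 0, 0, 0, 3, 1],
    [0, 0, 0, 0, 0, 0, 3, 0, 3, 0, 0, 0, 0, 0, 0, 0, 0, 0, 2, 0, 0, 0, 0, 0, 0, 0, 0, 0, 3, 0, 0, 0, 0, 0, 0, 0, 0, 0, 0, 0, 0, 3, 0, 3],
    [0, 0, 0, 0, 0, 0, 3, 0, 2, 0, 0, 0, 0, 0, 0, 0, 0, 0, 2, 0, 0, 0, 0, 3, 0, 0, 0, 3, 0, 0, 0, 0, 0, 0, 3, 0, 2, 0, 0, 0, 3, 3, 0, 3, 3],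
    [0, 0, 0, 0, 0, 0, 0, 0, 0, 0, 0, 0, 0, 0, 0, 0, 0, 0, 0, 0, 0, 0, 0, 1, 1, 0, 0, 3, 0, 0, 0, 0, 0, 0, 0, 0, 0, 1, 0, 0, 0, 1, 0, 3],
    [0, 0, 0, 0, 0, 0, 0, 0, 3, 0, 0, 0, 0, 0, 0, 0, 0, 0, 0, 0, 0, 0, 3, 3, 0, 1, 0, 0, 3, 3, 0, 0, 0, 3, 3, 0, 1, 0, 1, 0, 0, 3, 3, 3, 3],
    [0, 0, 0, 0, 0, 0, 0, 0, 1, 0, 0, 0, 0, 0, 0, 0, 0, 0, 0, 0, 0, 0, 0, 1, 0, 0, 1, 0, 1, 3, 0, 0, 0, 0, 1, 0, 1, 0, 0, 1, 3, 0, 0, 1, 1],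
    [0, 0, 0, 0, 0, 0, 3, 0, 0, 0, 0, 0, 0, 0, 0, 0, 0, 0, 0, 2, 0, 0, 0, 0, 0, 0, 0, 0, 0, 3],
    [0, 0, 0, 0, 0, 0, 3, 0, 3, 0, 0, 0, 0, 0, 0, 0, 0, 0, 0, 0, 2, 0, 0, 0, 0, 0, 0, 0, 0, 3, 0, 0, 0, 0, 0, 0, 0, 0, 0, 0, 0, 0, 3, 3],
    [0, 0, 0, 0, 0, 0, 3, 0, 0, 0, 0, 0, 0, 0, 0, 0, 0, 0, 0, 0, 2, 1, 1, 1, 0, 3, 0, 0, 0, 0, 0, 0, 0, 0, 0, 3, 2, 0, 3, 0, 1, 0, 3, 3, 1],
    [0, 0, 0, 0, 0, 0, 0, 0, 2, 0, 0, 0, 0, 0, 0, 0, 0, 0, 0, 0, 0, 3, 3, 3, 1, 3, 0, 0, 0, 1, 0, 0, 0, 0, 0, 0, 0, 1, 0, 0, 3, 0, 3, 2],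
    [0, 0, 0, 0, 0, 0, 0, 0, 3, 0, 0, 0, 0, 0, 0, 0, 0, 0, 0, 0, 0, 2, 0, 0, 0, 0, 0, 0, 0, 0, 0, 0, 0, 0, 0, 0, 0, 0, 0, 0, 0, 0, 3],
    [0, 0, 0, 0, 0, 0, 0, 0, 3, 0, 0, 0, 0, 0, 0, 0, 0, 0, 0, 0, 0, 0, 0, 3, 0, 0, 3, 0, 3, 0, 0, 0, 0, 0, 0, 0, 0, 1, 0, 0, 0, 0, 3, 1],
    [0, 0, 0, 0, 0, 0, 0, 0, 3, 0, 0, 0, 0, 0, 0, 0, 0, 0, 0, 0, 0, 0, 0, 3, 0, 0, 3, 0, 3, 0, 0, 0, 0, 0, 0, 1, 1, 0, 1, 3, 0, 3, 1, 3],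
    [0, 0, 0, 0, 0, 0, 0, 0, 3, 0, 0, 0, 0, 0, 0, 0, 0, 0, 0, 0, 0, 0, 2, 0, 0, 0, 0, 0, 0, 0, 0, 0, 0, 0, 0, 3, 0, 0, 0, 0, 3, 0, 3],
    [0, 0, 0, 0, 0, 0, 0, 0, 3, 0, 0, 0, 0, 0, 0, 0, 0, 0, 0, 0, 0, 0, 0, 3, 0, 0, 0, 3, 3, 3, 0, 0, 0, 0, 0, 0, 0, 1, 0, 0, 0, 0, 0, 3],
    [0, 0, 0, 0, 0, 0, 0, 0, 3, 0, 0, 0, 0, 0, 0, 0, 0, 0, 0, 0, 0, 0, 0, 3, 0, 0, 0, 3, 3, 0, 0, 0, 0, 0, 0, 0, 0, 0, 1, 0, 3, 3, 0, 2],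
    [0, 0, 0, 0, 0, 0, 0, 0, 0, 0, 0, 0, 0, 0, 0, 0, 0, 0, 0, 0, 0, 0, 0, 0, 0, 0, 0, 0, 0, 1, 0, 0, 0, 0, 0, 1, 0, 0, 0, 1, 3],
    [0, 0, 0, 0, 0, 0, 0, 0, 0, 0, 0, 0, 0, 0, 0, 0, 0, 0, 0, 0, 0, 0, 0, 0, 0, 0, 0, 0, 3, 1, 0, 0, 0, 0, 0, 0, 0, 1, 0, 0, 0, 0, 0, 2],
    [0, 0, 0, 0, 0, 0, 0, 0, 0, 0, 0, 0, 0, 0, 0, 0, 0, 0, 0, 0, 0, 0, 0, 0, 0, 0, 0, 0, 3, 3, 0, 0, 0, 0, 0, 1, 1, 0, 1, 0, 0, 3, 0, 3],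
    [0, 0, 0, 0, 0, 0, 0, 0, 0, 0, 0, 0, 0, 0, 0, 0, 0, 0, 0, 0, 0, 0, 0, 0, 0, 0, 0, 0, 0, 0, 0, 0, 0, 0, 0, 0, 0, 0, 0, 1, 0, 3, 1],
    [0, 0, 0, 0, 0, 0, 0, 0, 0, 0, 0, 0, 0, 0, 0, 0, 0, 0, 0, 0, 0, 0, 0, 0, 0, 0, 0, 0, 0, 1, 0, 0, 0, 0, 0, 0, 0, 0, 0, 0, 1, 3, 1],
    [0, 0, 0, 0, 0, 0, 0, 0, 0, 0, 0, 0, 0, 0, 0, 0, 0, 0, 0, 0, 0, 0, 0, 0, 0, 2, 1, 1, 1, 0, 0, 0, 0, 0, 0, 0, 3, 0, 3, 0, 1, 0, 0, 3],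
    [0, 0, 0, 0, 0, 0, 0, 0, 3, 0, 0, 0, 0, 0, 0, 0, 0, 0, 0, 0, 0, 0, 0, 0, 0, 0, 3, 3, 3, 3, 0, 0, 0, 0, 0, 0, 0, 1, 0, 3, 0, 3, 3, 3],
    [0, 0, 0, 0, 0, 0, 0, 0, 0, 0, 0, 0, 0, 0, 0, 0, 0, 0, 0, 0, 0, 0, 0, 0, 0, 0, 0, 0, 3, 3, 0, 0, 0, 0, 0, 0, 1, 0, 1, 3, 0, 0, 0, 1],
    [0, 0, 0, 0, 0, 0, 0, 0, 3, 0, 0, 0, 0, 0, 0, 0, 0, 0, 0, 0, 0, 0, 0, 0, 0, 0, 0, 2, 0, 1, 0, 0, 0, 0, 0, 0, 3, 0, 0, 0, 3, 0, 0, 3],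
    [0, 0, 0, 0, 0, 0, 0, 0, 0, 0, 0, 0, 0, 0, 0, 0, 0, 0, 0, 0, 0, 0, 0, 0, 0, 0, 0, 0, 0, 3, 0, 0, 0, 0, 0, 0, 1, 0, 0, 1, 3],
    [0, 0, 0, 0, 0, 0, 0, 0, 0, 0, 0, 0, 0, 0, 0, 0, 0, 0, 0, 0, 0, 0, 0, 0, 0, 0, 0, 0, 0, 3, 0, 0, 0, 0, 0, 0, 1, 0, 0, 0, 0, 3, 3, 0, 3],
    [0, 0, 0, 0, 0, 0, 0, 0, 0, 0, 0, 0, 0, 0, 0, 0, 0, 0, 0, 0, 0, 0, 0, 0, 0, 0, 0, 0, 0, 0, 0, 0, 0, 0, 0, 0, 0, 0, 0, 0, 0, 3, 0, 1],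
    [0, 0, 0, 0, 0, 0, 0, 0, 0, 0, 0, 0, 0, 0, 0, 0, 0, 0, 0, 0, 0, 0, 0, 0, 0, 0, 0, 0, 0, 0, 0, 0, 0, 0, 0, 0, 0, 0, 0, 0, 0, 3],
    [0, 0, 0, 0, 0, 0, 0, 0, 0, 0, 0, 0, 0, 0, 0, 0, 0, 0, 0, 0, 0, 0, 0, 0, 0, 0, 0, 0, 0, 0, 0, 0, 0, 0, 0, 0, 0, 0, 0, 0, 0, 0, 3],
    [0, 0, 0, 0, 0, 0, 0, 0, 3, 0, 0, 0, 0, 0, 0, 0, 0, 0, 0, 0, 0, 0, 0, 0, 0, 0, 0, 0, 0, 0, 2, 0, 0, 0, 0, 0, 0, 1, 0, 0, 0, 0, 0, 0, 3],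
    [0, 0, 0, 0, 0, 0, 0, 0, 0, 0, 0, 0, 0, 0, 0, 0, 0, 0, 0, 0, 0, 0, 0, 0, 0, 0, 0, 0, 0, 0, 0, 2, 0, 0, 0, 0, 0, 0, 1],
    [0, 0, 0, 0, 0, 0, 0, 0, 1, 0, 0, 0, 0, 0, 0, 0, 0, 0, 0, 0, 0, 0, 0, 0, 0, 0, 0, 0, 0, 0, 0, 2, 1, 1, 1, 0, 0, 0, 0, 0, 1, 0, 0, 0, 3],
    [0, 0, 0, 0, 0, 0, 0, 0, 0, 0, 0, 0, 0, 0, 0, 0, 0, 0, 0, 0, 0, 0, 0, 0, 0, 0, 0, 0, 0, 0, 0, 0, 0, 0, 3, 3, 3, 1, 0, 3],
    [0, 0, 0, 0, 0, 0, 0, 0, 0, 0, 0, 0, 0, 0, 0, 0, 0, 0, 0, 0, 0, 0, 0, 0, 0, 0, 0, 0, 0, 0, 0, 0, 0, 0, 0, 3],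
    [1, 1, 0, 0, 2, 1, 2, 1, 0, 1, 0, 1, 0, 1, 0, 1, 0, 0, 3, 0, 1, 0, 3, 2, 1, 1, 0, 1, 2, 1, 1, 1, 0, 1, 3, 3, 2, 0, 1, 2, 0, 2, 1, 3, 3, 2],
    [0, 0, 0, 0, 2, 2, 3, 1, 1, 0, 1, 1, 1, 1, 0, 1, 1, 1, 3, 0, 0, 0, 2, 1, 1, 0, 3, 3, 1, 3, 1, 1, 1, 0, 0, 1, 2, 1, 1, 0, 0, 0, 3, 0, 3],
    [0, 0, 0, 0, 0, 0, 0, 0, 0, 0, 0, 0, 0, 0, 0, 0, 0, 0, 0, 0, 0, 0, 0, 0, 0, 0, 0, 0, 0, 0, 0, 0, 0, 0, 0, 0, 0, 0, 0, 0, 0, 0, 0, 0, 0, 0, 0, 0, 0, 0, 0, 0, 0, 0, 2, 0, 0, 0, 0, 1],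
    [0, 0, 0, 0, 0, 0, 3, 3, 0, 0, 3, 0, 1, 0, 2, 0, 0, 3, 1, 3, 0, 0, 1, 0, 3, 0, 1, 0, 1, 3, 3, 0, 0, 3, 0, 3, 2, 3, 0, 3, 0, 1, 0, 3, 3, 0, 0, 0, 0, 0, 0, 0, 0, 0, 0, 0, 1, 0, 1, 1, 1, 1],
    [0, 0, 0, 0, 1, 1, 1, 0, 2, 0, 1, 0, 1, 0, 0, 0, 0, 0, 1, 3, 0, 0, 1, 1, 0, 0, 0, 1, 0, 1, 3, 0, 0, 0, 0, 0, 1, 0, 0, 0, 0, 1, 1, 0, 0, 0, 0, 0, 0, 0, 0, 0, 0, 0, 0, 0, 0, 0, 0, 0, 0, 1],
    [0, 0, 0, 0, 3, 3, 3, 0, 2, 0, 3, 0, 3, 0, 0, 0, 0, 0, 3, 0, 0, 0, 3, 3, 3, 0, 0, 1, 2, 1, 3, 0, 0, 0, 0, 0, 1, 0, 0, 0, 0, 1, 2, 0, 3, 0, 0, 0, 0, 0, 0, 0, 0, 0, 0, 0, 0, 0, 0, 1],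
    [0, 0, 0, 0, 0, 0, 0, 0, 0, 0, 0, 0, 0, 0, 0, 0, 0, 0, 0, 0, 0, 0, 0, 0, 0, 0, 0, 0, 0, 0, 0, 0, 0, 0, 0, 0, 0, 0, 0, 0, 0, 0, 0, 0, 0, 0, 0, 0, 0, 0, 0, 0, 0, 0, 0, 0, 0, 0, 0, 1],
    [3, 0, 2, 0, 3, 2, 1, 3, 3, 3, 3, 0, 0, 0, 3, 0, 0, 3, 0, 3, 0, 2, 1, 3, 3, 3, 2, 0, 1, 0, 3, 0, 0, 0, 2, 2, 3, 3, 3, 2, 1, 3, 3, 2, 3, 0, 0, 0, 0, 0, 0, 0, 0, 0, 0, 2, 1, 0, 1, 1, 0, 1],
    [0, 0, 0, 0, 1, 0, 0, 0, 0, 0, 0, 1, 0, 1, 3, 0, 0, 0, 1, 3, 3, 3, 1, 1, 0, 3, 0, 0, 0, 2, 3, 3, 3, 1, 1, 0, 2, 0, 3, 3, 1, 1, 1, 1, 0, 0, 0, 0, 0, 0, 0, 0, 0, 0, 0, 0, 0, 0, 0, 1, 0, 1],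
    [0, 0, 0, 0, 0, 0, 0, 0, 0, 0, 0, 0, 0, 0, 0, 0, 0, 0, 0, 3, 0, 3, 1, 0, 0, 3, 0, 1, 0, 1, 0, 0, 0, 0, 0, 1, 2, 0, 0, 0, 1, 0, 0, 1, 3, 0, 0, 0, 0, 0, 0, 0, 0, 0, 0, 0, 0, 0, 0, 1, 0, 1],
    [0, 0, 0, 0, 2, 2, 1, 3, 0, 0, 3, 3, 3, 3, 3, 0, 0, 0, 2, 3, 3, 1, 3, 2, 0, 3, 1, 3, 0, 2, 0, 1, 0, 1, 3, 0, 3, 0, 3, 0, 3, 2, 1, 0, 1, 0, 0, 0, 0, 0, 0, 0, 0, 0, 0, 0, 0, 0, 0, 0, 0, 1],
    [0, 0, 0, 0, 0, 0, 1, 0, 1, 0, 0, 0, 0, 0, 0, 0, 0, 1, 1, 1, 0, 1, 1, 1, 0, 0, 1, 1, 1, 3, 1, 0, 1, 1, 1, 3, 1, 0, 0, 1, 1, 1, 0, 0, 1, 0, 0, 0, 0, 0, 0, 0, 0, 0, 0, 0, 0, 0, 0, 1],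
    [0, 0, 0, 0, 0, 0, 0, 0, 1, 0, 0, 0, 0, 0, 0, 0, 0, 0, 0, 0, 0, 1, 1, 0, 0, 0, 0, 0, 0, 0, 0, 0, 0, 0, 0, 1, 0, 0, 0, 0, 1],
    [3, 0, 3, 3, 3, 2, 0, 2, 0, 0, 3, 0, 3, 0, 3, 3, 0, 3, 2, 0, 0, 0, 2, 1, 3, 0, 2, 0, 3, 0, 3, 0, 3, 0, 1, 3, 1, 0, 0, 0, 2, 3, 1, 2, 3, 0, 0, 0, 0, 0, 0, 0, 0, 0, 0, 0, 0, 2],
    [0, 0, 0, 0, 0, 0, 0, 0, 3, 0, 0, 0, 0, 0, 0, 0, 0, 0, 0, 0, 0, 0, 0, 0, 3, 0, 3, 3, 0, 0, 0, 0, 0, 0, 0, 0, 1, 0, 0, 0, 3],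
    [0, 0, 0, 0, 3, 3, 3, 0, 3, 0, 3, 0, 3, 0, 0, 0, 0, 1, 0, 3, 0, 3, 0, 0, 0, 0, 0, 3, 1, 0, 0, 0, 1, 3, 3, 1, 1, 0, 0, 3, 0, 0, 0, 2, 1],
    [1, 1, 1, 1, 3, 1, 3, 2, 0, 1, 0, 1, 0, 1, 1, 1, 0, 1, 0, 0, 1, 0, 0, 0, 1, 1, 1, 1, 0, 1, 0, 0, 1, 1, 1, 0, 0, 0, 0, 2, 1, 3, 2, 0, 2, 0, 0, 0, 0, 0, 0, 0, 0, 0, 0, 0, 0, 0, 0, 0, 0, 0, 0, 2],
    [1, 1, 1, 0, 1, 2, 1, 1, 1, 1, 0, 1, 0, 1, 1, 0, 1, 1, 3, 0, 1, 0, 3, 3, 0, 1, 1, 0, 3, 2, 0, 0, 1, 0, 0, 0, 3, 0, 1, 2, 1, 1, 0, 2, 0, 0, 0, 0, 0, 0, 0, 0, 0, 0, 0, 0, 0, 0, 0, 0, 0, 0, 0, 0, 0, 0, 0, 0, 0, 0, 0, 0, 2, 0, 0, 0, 1, 1, 1],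
    [0, 0, 0, 0, 2, 3, 2, 1, 0, 0, 0, 0, 2, 2, 1, 1, 1, 1, 0, 1, 1, 0, 3, 1, 1, 1, 1, 3, 0, 1, 1, 1, 1, 3, 0, 2, 2, 0, 2, 0, 0, 0, 2, 1, 3, 0, 0, 0, 0, 0, 0, 0, 0, 0, 0, 0, 0, 0, 0, 0, 0, 0, 0, 0, 0, 0, 0, 0, 0, 0, 0, 0, 0, 0, 0, 0, 0, 1, 1],
    [0, 0, 0, 0, 0, 2, 1, 1, 0, 0, 0, 0, 0, 0, 1, 1, 1, 1, 0, 0, 0, 1, 0, 1, 0, 1, 1, 0, 1, 2, 0, 0, 1, 0, 1, 1, 2, 0, 0, 0, 3, 3, 1, 2, 0, 0, 0, 0, 0, 0, 0, 0, 0, 0, 0, 0, 0, 0, 0, 0, 0, 0, 0, 0, 0, 0, 0, 0, 0, 0, 0, 0, 0, 0, 0, 0, 1, 1, 1, 1],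
    [0, 0, 0, 0, 0, 0, 0, 0, 3, 0, 0, 0, 0, 0, 0, 0, 0, 0, 0, 0, 0, 0, 3, 3, 0, 0, 0, 0, 0, 1, 1, 1, 0, 3, 3, 0, 3, 0, 1, 0, 0, 0, 3, 3, 1, 0, 0, 0, 0, 0, 0, 0, 0, 0, 0, 0, 0, 0, 0, 0, 0, 0, 0, 0, 0, 0, 0, 0, 0, 0, 0, 0, 0, 0, 0, 0, 0, 0, 0, 1],
    [0, 0, 1, 0, 3, 0, 0, 0, 3, 0, 0, 0, 0, 0, 0, 0, 0, 0, 0, 0, 0, 0, 0, 0, 0, 0, 0, 0, 0, 0, 0, 0, 0, 0, 0, 0, 0, 0, 0, 0, 0, 3, 0, 0, 0, 0, 0, 0, 0, 0, 0, 0, 0, 0, 0, 0, 0, 0, 0, 0, 0, 0, 0, 0, 0, 0, 0, 0, 0, 0, 0, 0, 0, 2],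
    [0, 0, 0, 0, 0, 2, 1, 1, 3, 0, 0, 0, 0, 0, 1, 1, 1, 1, 0, 0, 0, 1, 0, 3, 0, 1, 1, 0, 3, 2, 0, 0, 1, 0, 3, 1, 2, 1, 1, 0, 0, 0, 3, 0, 0, 0, 0, 0, 0, 0, 0, 0, 0, 0, 0, 0, 0, 0, 0, 0, 0, 0, 0, 0, 0, 0, 0, 0, 0, 0, 0, 0, 0, 0, 0, 0, 1, 1, 1],
    [0, 0, 0, 0, 0, 0, 0, 0, 1, 0, 0, 0, 0, 0, 0, 0, 0, 2, 0, 0, 0, 0, 0, 0, 0, 0, 0, 0, 0, 0, 0, 0, 0, 0, 0, 0, 0, 0, 0, 1, 0, 3, 0, 0, 0, 0, 0, 0, 0, 0, 0, 0, 0, 0, 0, 0, 0, 0, 0, 0, 0, 0, 0, 0, 0, 0, 0, 0, 0, 0, 0, 0, 0, 0, 0, 0, 0, 0, 0, 1],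
    [0, 0, 0, 0, 0, 0, 0, 0, 0, 0, 0, 0, 0, 0, 0, 0, 0, 0, 0, 0, 0, 0, 0, 3, 0, 0, 1, 0, 3, 0, 0, 0, 0, 0, 0, 0, 0, 0, 0, 0, 0, 3, 1, 0, 0, 0, 0, 0, 0, 0, 0, 0, 0, 0, 0, 0, 0, 0, 0, 0, 0, 0, 0, 0, 0, 0, 0, 0, 0, 0, 0, 0, 0, 0, 0, 0, 0, 0, 0, 1],
    [0, 0, 0, 0, 3, 3, 3, 3, 3, 0, 3, 3, 0, 0, 0, 0, 3, 0, 1, 0, 3, 0, 0, 3, 0, 3, 0, 0, 3, 2, 0, 0, 1, 0, 3, 0, 1, 3, 3, 0, 0, 3, 3, 2, 3, 0, 0, 0, 0, 0, 0, 0, 0, 0, 0, 0, 0, 0, 0, 0, 0, 0, 0, 0, 0, 0, 0, 0, 0, 0, 0, 0, 0, 0, 0, 0, 0, 1, 0, 1],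
    [0, 0, 0, 0, 0, 0, 3, 0, 2, 0, 0, 0, 0, 0, 0, 0, 0, 0, 0, 3, 3, 3, 0, 0, 0, 3, 0, 0, 0, 1, 3, 3, 3, 1, 0, 0, 3, 0, 3, 3, 0, 0, 3, 2, 2, 0, 0, 0, 0, 0, 0, 0, 0, 0, 0, 0, 0, 0, 0, 0, 0, 0, 0, 0, 0, 0, 0, 0, 0, 0, 0, 0, 0, 0, 0, 0, 0, 0, 0, 1],
    [0, 0, 0, 0, 0, 0, 0, 0, 3, 0, 0, 0, 0, 0, 0, 0, 0, 0, 0, 0, 0, 3, 0, 0, 0, 0, 3, 0, 1, 0, 0, 0, 0, 0, 0, 0, 0, 0, 0, 3, 0, 0, 1],
    [0, 0, 0, 0, 0, 3, 0, 0, 3, 0, 0, 0, 0, 0, 0, 0, 0, 0, 0, 0, 0, 0, 0, 0, 0, 0, 0, 0, 0, 3, 0, 0, 0, 0, 0, 0, 0, 0, 0, 0, 0, 0, 3, 3, 0, 0, 0, 0, 0, 0, 0, 0, 0, 0, 0, 0, 0, 0, 0, 0, 0, 0, 0, 0, 0, 0, 0, 0, 0, 0, 0, 0, 0, 0, 0, 0, 0, 2],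
    [0, 0, 0, 0, 0, 3, 0, 0, 0, 0, 0, 0, 0, 0, 0, 0, 0, 0, 0, 0, 0, 0, 0, 0, 0, 0, 0, 0, 0, 0, 0, 0, 0, 0, 0, 3, 0, 0, 0, 0, 0, 0, 0, 0, 0, 0, 0, 0, 0, 0, 0, 0, 0, 0, 0, 0, 0, 0, 0, 0, 0, 0, 0, 0, 0, 0, 0, 0, 0, 0, 0, 0, 0, 0, 0, 0, 0, 0, 2, 1]]
  tgt := [
    ([(0, 1)], [(0, 3), (1, 1), (2, 3), (3, 2), (4, 2), (5, 3), (6, 1), (7, 1), (11, 3), (12, 1), (14, 3), (17, 1), (18, 2), (20, 1), (22, 3), (23, 1), (25, 2), (26, 3), (34, 1), (36, 1), (37, 3), (38, 3), (39, 1), (40, 3), (41, 1), (50, 3), (68, 2), (74, 3)]),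
    ([], []),
    ([(0, 1)], [(0, 2), (1, 3), (2, 2), (4, 2), (7, 1), (8, 1), (9, 1), (10, 2), (11, 2), (12, 2), (15, 3), (19, 1), (20, 1), (23, 3), (24, 1), (25, 2), (30, 2), (37, 2), (43, 2), (45, 3), (47, 3), (62, 1), (64, 2), (65, 2), (68, 2), (71, 2), (76, 1), (77, 2), (79, 2), (82, 1), (86, 2), (87, 2)]),
    ([(0, 1)], [(1, 3), (2, 3), (4, 1), (7, 2), (8, 1), (12, 3), (16, 1), (17, 3), (18, 1), (21, 2), (22, 1), (23, 1), (24, 2), (25, 3), (26, 1), (28, 1), (29, 1), (30, 2), (32, 1), (36, 2), (38, 1), (39, 2), (62, 2), (73, 3), (75, 1), (76, 1), (79, 2), (82, 3), (84, 2), (86, 2)]),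
    ([(0, 1)], [(0, 3), (1, 1), (4, 2), (5, 1), (6, 2), (7, 1), (8, 3), (11, 3), (13, 2), (23, 3), (25, 2), (26, 1), (28, 3), (34, 2), (38, 2), (39, 2), (41, 2), (47, 2), (51, 3), (56, 3), (61, 2), (62, 1), (76, 3), (78, 2), (82, 2), (83, 2)]),
    ([(0, 2)], [(0, 1), (1, 1), (2, 1), (3, 1), (4, 2), (5, 1), (6, 3), (9, 1), (10, 1), (11, 1), (12, 2), (16, 1), (17, 1), (23, 3), (26, 3), (28, 3), (31, 2), (34, 3), (42, 3), (43, 2), (49, 1), (52, 1), (58, 2), (61, 2), (64, 2), (68, 2), (74, 2), (78, 2), (80, 1), (82, 2), (83, 1), (87, 3)]),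
    ([(0, 2)], [(0, 1), (1, 1), (2, 1), (3, 3), (6, 1), (8, 2), (12, 1), (14, 2), (15, 3), (17, 1), (18, 1), (20, 3), (21, 3), (23, 2), (24, 1), (25, 2), (35, 3), (40, 1), (41, 3), (43, 2), (46, 3), (47, 1), (48, 1), (63, 2), (65, 2), (69, 2)]),
    ([(0, 1)], [(0, 1), (1, 1), (2, 2), (4, 3), (6, 1), (7, 2), (9, 3), (10, 3), (11, 1), (15, 2), (17, 1), (18, 3), (20, 2), (22, 1), (23, 3), (24, 2), (29, 3), (32, 3), (33, 1), (34, 1), (38, 1), (42, 3), (54, 2), (58, 3), (62, 1), (64, 2), (68, 2), (74, 2), (76, 3), (81, 1), (87, 3), (88, 3)]),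
    ([], [(23, 3), (54, 1)]),
    ([(0, 1)], [(0, 1), (1, 2), (2, 2), (3, 1), (4, 2), (5, 2), (6, 2), (7, 2), (8, 2), (9, 1), (12, 3), (13, 3), (14, 1), (18, 3), (20, 3), (23, 3), (24, 2), (25, 1), (36, 2), (38, 2), (39, 1), (46, 2), (54, 1), (62, 1), (64, 2), (73, 3), (74, 1), (76, 3), (78, 3), (80, 1), (82, 1), (84, 1), (86, 2)]),
    ([(0, 3)], [(0, 2), (1, 2), (2, 1), (3, 2), (4, 3), (5, 3), (7, 3), (8, 2), (9, 2), (10, 3), (12, 2), (13, 2), (15, 2), (17, 3), (19, 2), (21, 2), (22, 3), (23, 2), (24, 3), (26, 1), (38, 2), (44, 2), (52, 3), (57, 1), (62, 2), (64, 1), (66, 3), (67, 1), (68, 1), (74, 1), (82, 2), (85, 2), (87, 2)]),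
    ([(0, 2)], [(1, 1), (6, 1), (7, 1), (8, 3), (9, 2), (12, 3), (15, 3), (16, 2), (17, 3), (21, 3), (23, 1), (25, 1), (26, 3), (30, 2), (32, 1), (33, 2), (36, 2), (39, 3), (45, 3), (61, 2), (68, 2), (78, 2), (80, 2), (82, 2), (84, 2)]),
    ([(0, 3)], [(0, 3), (1, 1), (3, 3), (4, 1), (6, 1), (7, 3), (9, 1), (11, 2), (13, 2), (14, 2), (15, 3), (17, 3), (18, 1), (22, 2), (25, 2), (26, 2), (28, 1), (31, 3), (33, 2), (38, 2), (41, 3), (44, 3), (48, 3), (54, 3), (55, 2), (56, 3), (59, 1), (61, 2), (62, 2), (64, 1), (68, 3), (74, 1), (76, 2), (78, 2), (79, 2), (80, 1), (83, 1), (86, 2), (90, 1)]),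
    ([], []),
    ([], [(0, 1), (1, 3), (4, 1), (5, 2), (7, 3), (8, 2), (9, 3), (16, 2), (17, 3), (18, 1), (21, 2), (22, 2), (23, 1), (24, 1), (26, 3), (28, 2), (29, 3), (32, 1), (33, 1), (36, 1), (38, 2), (39, 3), (45, 3), (61, 2), (62, 1), (68, 2), (76, 1), (78, 2), (79, 2), (80, 2), (82, 2), (84, 3), (86, 2), (90, 1)]),
    ([], [(68, 2)]),
    ([], []),
    ([], []),
    ([(0, 2)], [(1, 2), (2, 3), (3, 1), (4, 2), (8, 2), (9, 1), (11, 2), (15, 1), (16, 2), (17, 1), (21, 1), (22, 1), (23, 3), (24, 1), (25, 3), (28, 2), (29, 1), (30, 3), (32, 1), (33, 1), (36, 3), (38, 2), (39, 2), (45, 2), (62, 1), (68, 2), (73, 2), (76, 3)]),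
    ([(0, 3)], [(0, 3), (1, 1), (5, 1), (8, 3), (12, 2), (13, 1), (19, 2), (20, 1), (21, 1), (22, 2), (23, 2), (24, 3), (25, 1), (27, 2), (28, 2), (31, 2), (32, 3), (33, 2), (38, 3), (43, 2), (48, 3), (49, 3), (52, 3), (61, 2), (62, 1), (65, 1), (68, 2), (70, 3), (72, 1), (76, 2), (78, 2), (80, 2), (82, 2), (86, 2), (89, 3)]),
    ([(0, 2)], [(0, 1), (1, 3), (2, 1), (3, 3), (5, 1), (6, 2), (7, 3), (8, 3), (9, 2), (11, 1), (12, 1), (18, 3), (22, 2), (23, 1), (24, 2), (25, 3), (26, 3), (28, 2), (29, 2), (30, 3), (33, 2), (38, 1), (39, 1), (45, 2), (61, 2), (68, 2), (73, 1), (78, 2), (80, 2), (82, 2), (84, 2)]),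
    ([(0, 1)], [(1, 1), (2, 2), (3, 2), (4, 1), (5, 2), (6, 1), (7, 3), (8, 1), (9, 1), (12, 1), (15, 3), (16, 3), (21, 3), (22, 2), (23, 3), (24, 3), (28, 1), (32, 1), (33, 2), (36, 3), (39, 3), (45, 1), (61, 2), (62, 3), (76, 3), (78, 2), (79, 2), (80, 2), (82, 2), (84, 3), (86, 2), (90, 1)]),
    ([(0, 1)], [(1, 1), (2, 2), (3, 2), (4, 1), (5, 2), (6, 1), (7, 3), (8, 1), (9, 1), (12, 1), (15, 3), (16, 3), (21, 3), (22, 2), (24, 2), (28, 1), (32, 1), (33, 2), (36, 3), (39, 2), (61, 2), (62, 3), (73, 3), (76, 3), (78, 2), (79, 2), (80, 2), (82, 2), (84, 3), (86, 2), (90, 1)]),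
    ([(0, 1)], [(0, 1), (1, 2), (2, 3), (3, 1), (4, 2), (5, 3), (6, 3), (7, 1), (8, 1), (11, 1), (17, 3), (21, 3), (24, 1), (25, 2), (28, 1), (29, 2), (30, 2), (32, 1), (33, 2), (36, 1), (39, 3), (45, 3), (62, 1), (73, 3), (76, 1)]),
    ([], [(0, 1)]),
    ([(0, 1)], [(0, 1), (1, 3), (2, 2), (3, 2), (7, 1), (8, 3), (9, 3), (12, 1), (15, 2), (16, 1), (21, 1), (22, 2), (23, 1), (24, 1), (25, 1), (28, 1), (29, 1), (30, 3), (32, 1), (33, 1), (36, 2), (38, 1), (39, 1), (45, 1), (62, 1), (73, 2), (76, 1)]),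
    ([(0, 3)], [(1, 3), (6, 3), (7, 3), (8, 3), (9, 1), (12, 2), (15, 1), (16, 1), (17, 1), (18, 3), (21, 1), (22, 3), (23, 2), (24, 3), (25, 1), (26, 1), (28, 3), (29, 3), (30, 2), (32, 1), (33, 1), (36, 1), (38, 2), (39, 2), (45, 2), (62, 1), (73, 3), (76, 1)]),
    ([(0, 1)], [(1, 2), (2, 3), (3, 1), (4, 2), (6, 2), (7, 1), (8, 1), (9, 1), (11, 2), (12, 3), (15, 3), (16, 3), (17, 2), (21, 2), (22, 1), (23, 2), (24, 2), (25, 2), (26, 2), (28, 3), (29, 1), (30, 1), (33, 2), (36, 3), (38, 2), (39, 3), (61, 2), (62, 3), (73, 2), (76, 1), (78, 2), (80, 2), (82, 2), (84, 2)]),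
    ([(0, 2)], [(0, 1), (1, 3), (2, 3), (3, 1), (7, 2), (8, 2), (9, 3), (12, 2), (15, 1), (16, 1), (17, 2), (18, 1), (22, 3), (23, 2), (25, 1), (26, 3), (29, 2), (32, 2), (38, 2), (39, 3), (45, 3), (61, 2), (76, 2), (78, 2), (80, 2), (82, 2), (84, 2)]),
    ([], [(0, 1), (1, 3), (2, 1), (3, 3), (6, 3), (7, 2), (8, 2), (9, 2), (12, 1), (17, 3), (18, 1), (21, 3), (22, 2), (26, 1), (28, 2), (29, 1), (30, 1), (32, 1), (33, 3), (36, 1), (39, 3), (45, 1), (73, 1), (76, 2)]),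
    ([(0, 2)], [(0, 2), (1, 3), (2, 2), (3, 2), (5, 1), (6, 1), (8, 2), (11, 2), (12, 2), (15, 2), (17, 1), (18, 1), (21, 3), (22, 1), (23, 3), (24, 3), (25, 2), (26, 2), (28, 1), (29, 3), (32, 3), (36, 2), (39, 1), (61, 2), (62, 3), (76, 3), (78, 2), (79, 2), (80, 2), (82, 2), (84, 3), (86, 2), (90, 1)]),
    ([(0, 1)], []),
    ([(0, 3)], [(2, 1), (3, 3), (4, 1), (5, 3), (6, 1), (7, 3), (8, 1), (9, 1), (11, 1), (12, 1), (15, 3), (16, 3), (17, 2), (18, 3), (21, 1), (22, 3), (23, 1), (24, 3), (28, 1), (29, 2), (32, 1), (33, 1), (38, 1), (39, 1), (62, 3), (73, 2), (76, 3), (79, 2), (84, 1), (86, 2), (90, 1)]),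
    ([(0, 3)], [(0, 2), (1, 1), (2, 2), (3, 2), (4, 1), (5, 3), (6, 1), (7, 3), (8, 3), (11, 1), (12, 1), (15, 3), (16, 2), (17, 2), (18, 3), (21, 2), (23, 2), (24, 2), (25, 2), (26, 1), (29, 1), (30, 3), (32, 2), (33, 1), (36, 2), (39, 2), (45, 2), (62, 3), (73, 1), (76, 1), (79, 2), (84, 1), (86, 2), (90, 1)]),
    ([], [(1, 1), (2, 3), (3, 1), (6, 2), (7, 2), (9, 3), (15, 1), (21, 1), (22, 3), (23, 1), (24, 1), (26, 2), (28, 2), (29, 3), (30, 1), (32, 3), (33, 1), (36, 3), (39, 1), (62, 2)]),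
    ([], [(0, 2), (1, 3), (2, 1), (3, 3), (5, 2), (6, 1), (7, 2), (8, 2), (9, 1), (11, 2), (12, 3), (15, 3), (16, 1), (17, 1), (18, 1), (21, 1), (23, 3), (24, 1), (25, 3), (26, 3), (28, 2), (30, 3), (32, 1), (33, 1), (36, 2), (38, 2), (39, 2), (45, 3), (73, 1), (76, 2)]),
    ([], [(0, 2), (4, 2), (5, 2), (6, 2), (8, 2), (9, 3), (12, 2), (15, 1), (16, 2), (17, 3), (18, 1), (21, 1), (22, 1), (23, 3), (24, 2), (25, 1), (28, 1), (29, 1), (33, 2), (36, 3), (38, 2), (39, 2), (45, 1), (61, 2), (73, 1), (78, 2), (80, 2), (82, 2), (84, 2)]),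
    ([(0, 2)], [(1, 2), (5, 1), (6, 3), (7, 2), (8, 2), (9, 3), (11, 1), (12, 1), (15, 1), (16, 1), (17, 1), (18, 2), (21, 1), (22, 1), (23, 2), (24, 2), (25, 2), (29, 2), (30, 3), (32, 2), (33, 3), (73, 3), (76, 2)]),
    ([], [(1, 3), (2, 1), (3, 3), (5, 3), (6, 3), (7, 2), (9, 2), (11, 3), (12, 1), (16, 1), (22, 1), (23, 3), (24, 2), (25, 2), (26, 3), (28, 3), (30, 1), (32, 2), (33, 3), (36, 1), (38, 3), (61, 2), (78, 2), (80, 2), (82, 2), (84, 2)]),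
    ([(0, 2)], [(0, 2), (2, 2), (3, 2), (4, 2), (9, 2), (11, 2), (15, 2), (16, 2), (17, 2), (21, 2), (23, 1), (24, 2), (28, 2), (29, 2), (30, 2), (36, 3), (39, 2), (45, 1), (61, 2), (62, 2), (73, 2), (76, 2), (78, 2), (80, 2), (82, 2), (84, 2)]),
    ([], [(0, 2), (1, 1), (2, 3), (3, 1), (5, 2), (6, 3), (7, 2), (8, 2), (9, 3), (11, 2), (12, 1), (15, 1), (16, 3), (17, 3), (18, 3), (21, 3), (23, 3), (24, 1), (25, 1), (26, 1), (28, 2), (30, 1), (32, 3), (33, 3), (36, 3), (38, 2), (39, 3), (45, 3), (73, 1), (76, 2)]),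
    ([(0, 2)], [(0, 2), (2, 2), (3, 2), (4, 2), (9, 2), (11, 2), (15, 2), (16, 2), (17, 2), (21, 2), (24, 3), (28, 2), (29, 2), (30, 2), (36, 3), (39, 2), (45, 1), (61, 2), (62, 2), (73, 2), (76, 2), (78, 2), (80, 2), (82, 2), (84, 2)]),
    ([], [(23, 3), (24, 1), (45, 1)]),
    ([], [(1, 2), (2, 2), (3, 2), (4, 2), (7, 2), (8, 2), (11, 2), (12, 2), (18, 2), (25, 2), (26, 2), (30, 2), (32, 3), (33, 3), (36, 1), (38, 2), (39, 2), (73, 2)]),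
    ([(0, 2)], [(1, 3), (2, 1), (3, 3), (5, 1), (6, 1), (7, 2), (9, 3), (11, 1), (12, 3), (15, 3), (16, 2), (17, 3), (18, 2), (21, 2), (22, 2), (24, 2), (25, 1), (26, 2), (28, 3), (29, 3), (33, 2), (36, 3), (38, 2), (39, 3), (45, 2), (61, 2), (73, 3), (78, 2), (80, 2), (82, 2), (84, 2)])]

/-- Orbits inside the subgroup. -/
def orbits : List (ℕ × List (ℕ × List ℕ)) := [
    (0, [(0, []), (1, [0, 7]), (2, [1, 8]), (3, [3, 7]), (5, [5, 7]), (6, [5, 8]), (11, [3, 4, 6, 7]), (12, [3, 5]), (14, [3, 4, 7]), (15, [2, 3, 6]), (16, [6, 8]), (17, [3]), (18, [4, 7]), (19, [3, 6]), (21, [4, 5]), (23, [2, 6]), (24, [3, 6, 7, 8]), (25, [3, 4, 8]), (26, [1]), (29, [4, 8]), (30, [2, 3, 7]), (32, [0, 4]), (34, [3, 4]), (36, [1, 5, 6]), (37, [0, 1, 2]), (39, [3, 5, 7, 8]), (42, [3, 8]), (44,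 [2, 5, 7]), (47, [2, 7]), (48, [3, 5, 8]), (50, [4, 6]), (51, [2, 6, 8]), (53, [2, 3]), (54, [4, 6, 8]), (55, [3, 6, 7]), (56, [3, 5, 6]), (58, [3, 6, 8]), (59, [6, 7]), (60, [2, 6, 7, 8]), (61, [5, 6, 7]), (62, [6]), (65, [2, 8]), (66, [5, 6, 8]), (67, [2]), (68, [7]), (69, [5]), (71, [0, 2, 7]), (72, [1, 5]), (75, [2, 6, 7]), (78, [3, 4, 6]), (79, [5, 6]), (80, [2, 5]), (81, [4, 5, 6, 7]), (82, [0, 6, 7]), (83, [0, 2]), (87, [3, 7, 8]), (88, [7, 8]), (89, [4]), (90, [3, 5, 7]), (92, [6, 7, 8]), (96, [4, 7, 8]), (97, [1, 2, 5]), (98, [8]), (99, [1, 2])]),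
    (1, [(1, []), (5, [2, 3, 4, 5, 6]), (61, [0, 5, 6]), (82, [1, 2, 3, 6, 8])]),
    (2, [(2, []), (53, [0, 1, 4, 6, 8])])]

theorem ident_ok : identPerm 7 CfsgLib.Spor.Mults.HigmanSims.eltRows 361 CfsgLib.Spor.Mults.HigmanSims.basePts cert sw gw = true := by decide +kernel

theorem sub_ok : subPermOK 100 7 CfsgLib.Spor.Mults.HigmanSims.eltRows sw [] orbits = true := by decide +kernel

theorem shape_ok : cert.shapeOK = true := by decide +kernel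

theorem lin_ok : cert.linOK = true := by decide +kernel

theorem prod_ok : cert.p ^ cert.m ≤ (orbits.map fun e => e.2.length).prod := by decide +kernel

end CfsgLib.Spor.Mults.HigmanSims.P2
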