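import Cfsg.Agent.Lib.Spor.SchurCert.PermBridge
import Cfsg.Agent.Lib.Spor.Mults.HigmanSims.Data

/-!
The certificate at the prime 3: a polycyclic sequence of a Sylow subgroup and conjugations killing the tails.
-/

set_option autoImplicit false
set_option maxRecDepth 100000
set_option maxHeartbeats 0

namespace CfsgLib.Spor.Mults.HigmanSims.P3

open CfsgLib.Spor.SchurCert

/-- The Sylow elements. -/
def sw : List (List ℕ) := [
    [8, 280, 227, 8, 304],
    [8, 161, 221, 178, 337]]

/-- The conjugating elements. -/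
def gw : List (List ℕ) := [
    [252, 189, 274, 267, 338],
    [8, 115, 8, 268, 336],
    [288, 195, 312, 340, 338]]

/-- The certificate. -/
def cert : SchurCert.Cert where
  p := 3
  m := 2
  N := 3
  rules := [
    ([0, 0, 0], []),
    ([1, 1, 1], []),
    ([1, 0], [0, 1])]
  maps := [
    [([1], [1, 1])],
    [([0], [0, 0]), ([1], [1, 1])],
    [([0], [0, 1, 1]), ([1], [1, 1])]]
  overlaps := []
  fuses := [
    ⟨0, [0, 0, 0], [], [(1, 0)], [], [(1, 0), (1, 0)], []⟩,
    ⟨1, [0, 0, 0], [], [(0, 0)], [], [(0, 0), (0, 0)], []⟩,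
    ⟨2, [1, 0], [0, 1], [(2, 0)], [], [(2, 1), (2, 0), (1, 1)], [(1, 1)]⟩]
  adj := [
    [],
    []]
  base := []
  dense := [
    [0, 2],
    [2],
    [0, 0, 2]]
  tgt := [
    ([], [(1, 2)]),
    ([], [(0, 2)]),
    ([], [(2, 2)])]

/-- Orbits inside the subgroup. -/
def orbits : List (ℕ × List (ℕ × List ℕ)) := [
    (1, [(1, []), (8, [0, 0, 1]), (9, [0]), (11, [0, 1]), (16, [1, 1]), (67, [0, 0, 1, 1]), (82, [1]), (83, [0, 0]), (87, [0, 1, 1])])]

theorem ident_ok : identPerm 7 CfsgLib.Spor.Mults.HigmanSims.eltRows 361 CfsgLib.Spor.Mults.HigmanSims.basePts cert sw gw = true := by decide +kernel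

theorem sub_ok : subPermOK 100 7 CfsgLib.Spor.Mults.HigmanSims.eltRows sw [] orbits = true := by decide +kernel

theorem shape_ok : cert.shapeOK = true := by decide +kernel

theorem lin_ok : cert.linOK = true := by decide +kernel

theorem prod_ok : cert.p ^ cert.m ≤ (orbits.map fun e => e.2.length).prod := by decide +kernel

end CfsgLib.Spor.Mults.HigmanSims.P3
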