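import Cfsg.Agent.Lib.Spor.SchurCert.PermBridge
import Cfsg.Agent.Lib.Spor.Mults.HigmanSims.Data

/-!
The certificate at the prime 5: a polycyclic sequence of a Sylow subgroup and conjugations killing the tails.
-/

set_option autoImplicit false
set_option maxRecDepth 100000
set_option maxHeartbeats 0

namespace CfsgLib.Spor.Mults.HigmanSims.P5

open CfsgLib.Spor.SchurCert

/-- The Sylow elements. -/
def sw : List (List ℕ) := [
    [286, 109, 315, 269, 8],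
    [72, 235, 59, 306, 337],
    [199, 192, 60, 218, 8]]

/-- The conjugating elements. -/
def gw : List (List ℕ) := [
    [132, 280, 183, 306, 336],
    [76, 71, 315, 306, 337]]

/-- The certificate. -/
def cert : SchurCert.Cert where
  p := 5
  m := 3
  N := 5
  rules := [
    ([0, 0, 0, 0, 0], []),
    ([1, 1, 1, 1, 1], []),
    ([2, 2, 2, 2, 2], []),
    ([1, 0], [0, 1, 2, 2, 2, 2]),
    ([2, 0], [0, 2]),
    ([2, 1], [1, 2])]
  maps := [
    [([0], [0, 0, 0, 0]), ([1], [0, 0, 0, 1, 2, 2]), ([2], [2, 2, 2, 2])],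
    [([0], [0, 0]), ([1], [1, 1, 2, 2, 2, 2]), ([2], [2, 2, 2, 2])]]
  overlaps := [
    ([1, 1, 1, 1, 1, 0], [(1, 0)], [(3, 4), (3, 3), (3, 2), (3, 1), (3, 0), (5, 5), (5, 4), (5, 3), (5, 2), (2, 3), (5, 5), (5, 4), (5, 3), (2, 4), (5, 5), (5, 4), (2, 5), (5, 5), (1, 1), (2, 1)])]
  fuses := [
    ⟨0, [0, 0, 0, 0, 0], [], [(0, 0)], [], [(0, 0), (0, 0), (0, 0), (0, 0)], []⟩,
    ⟨0, [2, 1], [1, 2], [(5, 0)], [], [(4, 3), (4, 2), (4, 1), (4, 0), (4, 4), (4, 3), (4, 2), (4, 1), (4, 5), (4, 4), (4, 3), (4, 2), (5, 6), (5, 5), (5, 4), (5, 3), (2, 4)], [(2, 4)]⟩,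
    ⟨1, [2, 0], [0, 2], [(4, 0)], [], [(4, 3), (4, 2), (4, 1), (4, 0), (4, 4), (4, 3), (4, 2), (4, 1)], []⟩,
    ⟨1, [1, 1, 1, 1, 1], [], [(1, 0)], [], [(5, 5), (5, 4), (5, 3), (5, 2), (5, 6), (5, 5), (5, 4), (5, 3), (2, 4), (5, 6), (5, 5), (5, 4), (1, 0), (5, 2), (5, 1), (5, 0), (2, 1), (5, 2), (5, 1), (5, 3), (5, 2), (2, 3), (5, 3), (5, 4), (1, 0), (2, 0)], []⟩]
  adj := [
    [],
    [],
    [(3, 4)]]
  base := []
  dense := [
    [0, 0, 1],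
    [2],
    [0, 0, 0, 0, 3, 2],
    [0, 0, 0, 0, 3],
    [0, 4, 1]]
  tgt := [
    ([], [(1, 3)]),
    ([], [(0, 1), (4, 4)]),
    ([], [(0, 1)]),
    ([], []),
    ([], [(3, 2)]),
    ([], [(2, 3), (3, 2)])]

/-- Orbits inside the subgroup. -/
def orbits : List (ℕ × List (ℕ × List ℕ)) := [
    (0, [(0, []), (2, [0, 0, 2]), (5, [1, 1, 2, 2]), (6, [1, 1, 2, 2, 2]), (7, [2, 2, 2, 2]), (10, [0, 2, 2, 2]), (12, [1, 2, 2]), (13, [1, 1, 1]), (17, [0, 2]), (18, [0, 1, 1, 2]), (21, [1, 1, 1, 1]), (27, [0, 1, 1, 1]), (30, [2, 2]), (33, [1, 1]), (43, [1]), (45, [0, 0, 2, 2]), (48, [0, 1, 1]), (52, [2, 2, 2]), (53, [1, 1, 2]), (70, [0, 0, 2, 2, 2]), (73, [0, 2, 2]), (90, [0]), (91, [1, 2]), (95, [0, 0]), (98, [2])]),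
    (1, [(1, []), (9, [0, 0, 0, 0, 1, 1, 1, 1, 2]), (15, [0, 0, 1, 1]), (22, [0, 1, 2, 2, 2]), (40, [0, 0, 0, 1, 1, 1, 2])])]

theorem ident_ok : identPerm 7 CfsgLib.Spor.Mults.HigmanSims.eltRows 361 CfsgLib.Spor.Mults.HigmanSims.basePts cert sw gw = true := by decide +kernel

theorem sub_ok : subPermOK 100 7 CfsgLib.Spor.Mults.HigmanSims.eltRows sw [] orbits = true := by decide +kernel

theorem shape_ok : cert.shapeOK = true := by decide +kernel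

theorem lin_ok : cert.linOK = true := by decide +kernel

theorem prod_ok : cert.p ^ cert.m ≤ (orbits.map fun e => e.2.length).prod := by decide +kernel

end CfsgLib.Spor.Mults.HigmanSims.P5
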