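import Cfsg.Agent.Lib.Spor.Mults.Cyclic
import Cfsg.Agent.Lib.Spor.Mults.HigmanSims.Group
import Cfsg.Agent.Lib.Spor.Mults.HigmanSims.P2
import Cfsg.Agent.Lib.Spor.Mults.HigmanSims.P3
import Cfsg.Agent.Lib.Spor.Mults.HigmanSims.P5
import Cfsg.Agent.Lib.Spor.Mults.HigmanSims.P7
import Cfsg.Agent.Lib.Spor.Mults.HigmanSims.P11

/-!
The bound on the kernels of stem extensions from the certificates at each prime.
-/

set_option autoImplicit false
set_option maxRecDepth 20000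

namespace CfsgLib.Spor.Mults.HigmanSims

open Cfsg CfsgLib.Spor.PermCert CfsgLib.Spor.SchurCert

theorem card_group : Nat.card ↥HSPerm.P = 44352000 := by rw [packed.card, chain_size]

instance fact_P2 : Fact P2.cert.p.Prime := ⟨by rw [show P2.cert.p = 2 from rfl]; norm_num⟩

theorem card_le_2 {Γ : Type*} [Group Γ] [Finite Γ] {σ : Γ →* ↥HSPerm.P} (hσ : Cfsg.IsStemExtension σ)
    (P : Subgroup Γ) (hP : P ≤ σ.ker) (hPp : IsPGroup 2 P) : Nat.card P ≤ 2 :=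
  packed.card_le hσ P2.cert P2.sw P2.gw P2.orbits (e := 2) rfl (by decide)
    (by rw [card_group]; exact factor_of (p := 2) (a := 9) (b := 86625) (by norm_num) (by norm_num) (by norm_num))
    P2.ident_ok P2.sub_ok P2.prod_ok P2.shape_ok P2.lin_ok P hP hPp

instance fact_P3 : Fact P3.cert.p.Prime := ⟨by rw [show P3.cert.p = 3 from rfl]; norm_num⟩

theorem not_dvd_3 {Γ : Type*} [Group Γ] [Finite Γ] {σ : Γ →* ↥HSPerm.P} (hσ : Cfsg.IsStemExtension σ) :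
    ¬ 3 ∣ Nat.card σ.ker :=
  packed.not_dvd hσ P3.cert P3.sw P3.gw P3.orbits rfl rfl
    (by rw [card_group]; exact factor_of (p := 3) (a := 2) (b := 4928000) (by norm_num) (by norm_num) (by norm_num))
    P3.ident_ok P3.sub_ok P3.prod_ok P3.shape_ok P3.lin_ok

instance fact_P5 : Fact P5.cert.p.Prime := ⟨by rw [show P5.cert.p = 5 from rfl]; norm_num⟩

theorem not_dvd_5 {Γ : Type*} [Group Γ] [Finite Γ] {σ : Γ →* ↥HSPerm.P} (hσ : Cfsg.IsStemExtension σ) :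
    ¬ 5 ∣ Nat.card σ.ker :=
  packed.not_dvd hσ P5.cert P5.sw P5.gw P5.orbits rfl rfl
    (by rw [card_group]; exact factor_of (p := 5) (a := 3) (b := 354816) (by norm_num) (by norm_num) (by norm_num))
    P5.ident_ok P5.sub_ok P5.prod_ok P5.shape_ok P5.lin_ok

instance fact_P7 : Fact P7.cert.p.Prime := ⟨by rw [show P7.cert.p = 7 from rfl]; norm_num⟩

theorem not_dvd_7 {Γ : Type*} [Group Γ] [Finite Γ] {σ : Γ →* ↥HSPerm.P} (hσ : Cfsg.IsStemExtension σ) :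
    ¬ 7 ∣ Nat.card σ.ker :=
  packed.not_dvd hσ P7.cert P7.sw P7.gw P7.orbits rfl rfl
    (by rw [card_group]; exact factor_of (p := 7) (a := 1) (b := 6336000) (by norm_num) (by norm_num) (by norm_num))
    P7.ident_ok P7.sub_ok P7.prod_ok P7.shape_ok P7.lin_ok

instance fact_P11 : Fact P11.cert.p.Prime := ⟨by rw [show P11.cert.p = 11 from rfl]; norm_num⟩

theorem not_dvd_11 {Γ : Type*} [Group Γ] [Finite Γ] {σ : Γ →* ↥HSPerm.P} (hσ : Cfsg.IsStemExtension σ) :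
    ¬ 11 ∣ Nat.card σ.ker :=
  packed.not_dvd hσ P11.cert P11.sw P11.gw P11.orbits rfl rfl
    (by rw [card_group]; exact factor_of (p := 11) (a := 1) (b := 4032000) (by norm_num) (by norm_num) (by norm_num))
    P11.ident_ok P11.sub_ok P11.prod_ok P11.shape_ok P11.lin_ok

theorem not_dvd_other {Γ : Type*} [Group Γ] [Finite Γ] {σ : Γ →* ↥HSPerm.P} (hσ : Cfsg.IsStemExtension σ) {ℓ : ℕ}
    (hℓ : ℓ.Prime) (hne2 : ℓ ≠ 2) : ¬ ℓ ∣ Nat.card σ.ker := by
  have : Fact ℓ.Prime := ⟨hℓ⟩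
  by_cases h3 : ℓ = 3
  · subst h3
    exact not_dvd_3 hσ
  by_cases h5 : ℓ = 5
  · subst h5
    exact not_dvd_5 hσ
  by_cases h7 : ℓ = 7
  · subst h7
    exact not_dvd_7 hσ
  by_cases h11 : ℓ = 11
  · subst h11
    exact not_dvd_11 hσ
  refine not_dvd_of_not_dvd hσ card_group fun hd => ?_
  rw [show (44352000 : ℕ) = 2 ^ 9 * 3 ^ 2 * 5 ^ 3 * 7 ^ 1 * 11 ^ 1 by norm_num] at hd
  have hq : ∀ q k : ℕ, q.Prime → ℓ ∣ q ^ k → ℓ = q := fun q k hq hdv =>
    (Nat.prime_dvd_prime_iff_eq hℓ hq).1 (hℓ.dvd_of_dvd_pow hdv)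
  rcases hℓ.dvd_mul.1 hd with hd | hd
  · rcases hℓ.dvd_mul.1 hd with hd | hd
    · rcases hℓ.dvd_mul.1 hd with hd | hd
      · rcases hℓ.dvd_mul.1 hd with hd | hd
        · exact hne2 (hq 2 _ (by norm_num) hd)
        · exact h3 (hq 3 _ (by norm_num) hd)
      · exact h5 (hq 5 _ (by norm_num) hd)
    · exact h7 (hq 7 _ (by norm_num) hd)
  · exact h11 (hq 11 _ (by norm_num) hd)

theorem card_ker_dvd {Γ : Type*} [Group Γ] [Finite Γ] {σ : Γ →* ↥HSPerm.P} (hσ : Cfsg.IsStemExtension σ) :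
    Nat.card σ.ker ∣ 2 :=
  card_ker_dvd_prime (hp := ⟨by norm_num⟩) (fun _ hℓ hne => not_dvd_other hσ hℓ hne) fun P hP hPp =>
    card_le_2 hσ P hP hPp

end CfsgLib.Spor.Mults.HigmanSims
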