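/-
Checks of the lifts at a range of points.
-/
import Cfsg.Agent.Lib.Spor.Mults.HigmanSims.Lifts

namespace CfsgLib.Spor.Mults.HigmanSims

open CfsgLib.Spor.TC

set_option maxRecDepth 100000 in
theorem pointRange0 : allFrom (fun c => lifts.pointOK c) 0 704 = true := by decide +kernel

end CfsgLib.Spor.Mults.HigmanSims
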