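/-
The stem extension of HS.
-/
import Cfsg.Agent.Lib.Spor.Mults.HigmanSims.Group
import Cfsg.Agent.Lib.Spor.Mults.HigmanSims.PresBound
import Cfsg.Agent.Lib.Spor.Mults.HigmanSims.CheckRep0
import Cfsg.Agent.Lib.Spor.Mults.HigmanSims.CheckPoint0

set_option maxRecDepth 20000

namespace CfsgLib.Spor.Mults.HigmanSims

open CfsgLib.Spor.TC

/-- The involutions as words in the packed elements. -/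
def genWords : List (List ℕ) := [[129, 62, 307, 269, 305], [197, 13, 183, 218, 336], [354, 277, 275, 340, 8], [41, 8, 308, 178, 8], [289, 31, 8, 178, 305]]

/-- Orbits along the base as words in the involutions. -/
def genOrbits : List (ℕ × List (ℕ × List ℕ)) := [
  (0, [
    (0, []),
    (1, [2, 4, 3, 0]),
    (2, [3, 1]),
    (3, [3, 4, 2, 3, 4]),
    (4, [1, 3, 1, 4]),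
    (5, [0, 1, 4, 1]),
    (6, [1, 0, 1, 4, 1, 0]),
    (7, [3]),
    (8, [3, 2, 3, 1, 4]),
    (9, [2, 4, 3]),
    (10, [1, 3, 4, 1, 4]),
    (11, [0, 4, 0, 2]),
    (12, [2, 1, 0, 1, 3, 4, 3, 1]),
    (13, [0, 3, 4]),
    (14, [0, 1, 4]),
    (15, [1, 0, 2, 4, 0, 1, 4]),
    (16, [4, 1, 4]),
    (17, [3, 1, 0, 4, 2]),
    (18, [0, 4, 3, 0]),
    (19, [1, 2, 0, 0]),
    (20, [2, 4]),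
    (21, [1, 4, 3, 1]),
    (22, [3, 1, 3, 1, 4, 3, 0]),
    (23, [1, 2, 1]),
    (24, [1, 0, 2, 4, 0]),
    (25, [4, 0, 1, 0, 2, 4, 0]),
    (26, [1, 3, 4, 3, 1, 4, 2]),
    (27, [3, 4, 2]),
    (28, [0, 4, 1, 2]),
    (29, [3, 2, 3, 0, 4]),
    (30, [1, 4, 0, 2]),
    (31, [3, 2, 1, 0, 4, 1, 4, 3]),
    (32, [4, 2, 4, 4]),
    (33, [0, 4, 2, 1]),
    (34, [1, 1, 2, 0, 1, 2, 4]),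
    (35, [0, 2, 0, 1, 0, 1, 4, 1, 1, 0]),
    (36, [2, 0, 2, 0, 1, 4]),
    (37, [3, 2, 3]),
    (38, [0, 0, 1, 4]),
    (39, [3, 4, 0, 1, 4]),
    (40, [0, 2, 1, 2]),
    (41, [2, 3, 1, 4, 1, 0]),
    (42, [3, 2, 1, 4]),
    (43, [2, 0, 4, 2]),
    (44, [0, 4, 1, 0]),
    (45, [4, 1, 2, 0]),
    (46, [3, 1, 0, 4]),
    (47, [3, 2, 3, 4]),
    (48, [0, 2, 3, 4, 1, 2]),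
    (49, [1, 3, 2, 4]),
    (50, [2, 3, 1, 0, 4, 2, 4, 0, 1]),
    (51, [2, 1]),
    (52, [0, 1, 2, 4]),
    (53, [4, 0, 4, 0]),
    (54, [1, 4, 2]),
    (55, [0, 4, 3, 2, 0, 1, 4, 3]),
    (56, [4, 2, 3, 0, 2, 0, 1, 4]),
    (57, [4, 2, 3]),
    (58, [1, 2, 0, 4, 3]),
    (59, [4, 3, 1, 4]),
    (60, [1, 2, 3, 1, 2, 3, 0, 3, 1, 4]),
    (61, [4, 3, 4, 0, 4, 1, 4, 0]),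
    (62, [0, 1, 4, 0]),
    (63, [3, 1, 3, 4]),
    (64, [2, 0, 3, 0, 4, 3, 1, 4]),
    (65, [4, 3, 3, 3]),
    (66, [0, 2]),
    (67, [1, 2, 4]),
    (68, [0, 4, 0, 2, 0, 1, 2]),
    (69, [4, 3, 1, 2, 1]),
    (70, [4, 1, 4, 0, 2]),
    (71, [3, 1, 4, 0, 2]),
    (72, [4, 0, 1, 4, 0]),
    (73, [3, 1, 3, 1, 3, 4]),
    (74, [1, 4, 3]),
    (75, [2, 4, 0, 4, 1, 4, 1, 0, 3]),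
    (76, [3, 1, 4, 1, 3]),
    (77, [0, 2, 4]),
    (78, [2, 0, 1, 4, 3]),
    (79, [1, 0, 1, 4, 0, 2, 1]),
    (80, [4, 2, 4, 3]),
    (81, [0, 1, 4, 2]),
    (82, [0, 4, 2]),
    (83, [0, 2, 0, 1, 3, 4, 3]),
    (84, [4, 1, 2]),
    (85, [2, 0, 1, 4]),
    (86, [4, 2, 4]),
    (87, [0, 2, 0, 1, 2, 4]),
    (88, [2]),
    (89, [4, 3, 1, 2, 4]),
    (90, [1, 0, 2]),
    (91, [2, 1, 3]),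
    (92, [1, 3, 2, 1, 4, 0, 3]),
    (93, [2, 1, 4, 1]),
    (94, [2, 0, 4, 1]),
    (95, [2, 0, 1, 2, 1]),
    (96, [4]),
    (97, [3, 1, 2, 1, 4]),
    (98, [2, 0, 4, 3]),
    (99, [4, 1, 3, 4, 0, 2, 3, 4])]),
  (1, [
    (1, []),
    (2, [2, 0, 1, 0, 3, 4, 2]),
    (3, [2, 4, 3, 2, 4, 3, 4, 2]),
    (4, [0, 1, 3, 1]),
    (5, [0, 2, 1, 2, 1, 3]),
    (6, [3, 1, 2, 1, 0, 1]),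
    (7, [3, 2, 3, 2, 4, 3, 2]),
    (8, [0, 3, 4, 2, 3, 2, 4, 1]),
    (9, [3, 4, 2, 4, 1, 2, 3, 4]),
    (10, [2, 1, 3, 1, 2]),
    (11, [1, 0, 2, 0]),
    (12, [3, 2, 3, 4, 3, 4, 1]),
    (13, [3, 2, 3, 1, 0, 2, 3]),
    (14, [1, 3, 0, 3, 1, 3, 1, 3]),
    (15, [2, 1, 0, 1, 2]),
    (16, [1, 3, 2, 3]),
    (17, [2, 1, 4, 0, 4, 0, 2, 1, 4]),
    (18, [0, 2, 3]),
    (19, [2, 1, 2, 0, 3, 1, 4, 2]),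
    (20, [1, 3, 2, 0, 1]),
    (21, [0, 3, 4, 0, 1, 0, 4, 3, 1, 3]),
    (22, [3, 2, 1, 3, 1]),
    (23, [1, 2, 4, 3, 2]),
    (24, [1, 3, 2, 4, 3, 4]),
    (25, [0, 1, 4, 0, 1, 2, 0, 4, 3, 0, 3]),
    (26, [3, 1, 2, 0, 1, 2, 3, 1]),
    (27, [3, 4, 0, 3, 1, 0, 2, 4]),
    (28, [3, 4, 2, 1, 2, 4, 0]),
    (32, [4, 2, 0, 2, 0, 4]),
    (33, [1, 2, 4, 2, 3, 0]),
    (35, [0, 3, 4, 2, 3, 4, 1]),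
    (37, [4, 3, 2, 3, 4, 1, 2, 3, 2, 4]),
    (38, [4, 2, 4, 1, 2, 4, 2]),
    (39, [3, 1, 2, 0, 1, 3]),
    (40, [3, 1, 4, 3, 2, 4]),
    (42, [3, 1, 2, 0, 3, 1, 3]),
    (43, [1, 2, 4, 0, 2, 0, 2]),
    (44, [3, 4, 2, 4, 2, 3, 4, 0]),
    (45, [0, 1, 0]),
    (46, [1, 3, 0]),
    (47, [4, 3, 2, 3, 4, 2, 3, 2, 4]),
    (48, [3, 1, 2, 0, 1, 2, 0]),
    (51, [0, 4, 0, 4, 1, 0, 2, 4]),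
    (53, [1, 3, 1, 0]),
    (54, [2, 1, 4, 2, 1, 4]),
    (57, [3, 4, 3, 4]),
    (60, [2, 4, 3, 1, 4, 3, 4, 2]),
    (61, [1, 3, 1, 2, 0, 1]),
    (62, [0, 2, 1, 4, 3, 0, 2, 0, 4]),
    (63, [2, 0, 4, 0, 1, 0, 4, 0, 2]),
    (64, [4, 2, 3, 4, 1, 3]),
    (66, [3, 4, 0, 2, 4, 0, 3, 2]),
    (67, [3, 0, 1]),
    (68, [3, 1, 2, 0, 2, 1, 3]),
    (69, [3, 1, 2, 1, 3]),
    (70, [3, 4, 2, 1, 2, 4, 1, 0]),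
    (72, [0, 4, 0, 2, 1, 0, 4, 0]),
    (73, [0, 3, 4, 0, 3, 0, 4, 1]),
    (74, [1, 3, 2, 0, 3, 1, 0]),
    (75, [4, 3, 4, 2, 3, 1]),
    (76, [4, 0, 1, 3, 1, 4, 0, 3, 4]),
    (78, [3, 2, 3, 1, 0, 1, 0]),
    (79, [1, 3, 4, 1, 2, 1, 4, 3]),
    (80, [4, 3, 2, 4, 3, 0, 1, 2, 3, 4]),
    (81, [3, 2, 3, 2, 4, 2, 1]),
    (82, [0, 3, 4, 0, 1, 0, 3, 2, 4]),
    (83, [2, 1, 3, 1, 3, 2, 1]),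
    (84, [1, 3, 2, 0, 3, 1, 2, 3]),
    (86, [3, 1, 2, 4, 3, 2, 4]),
    (87, [3, 2, 3, 1]),
    (88, [1, 2, 4, 2, 1]),
    (89, [3, 4, 2, 1, 2, 4, 3, 1]),
    (90, [4, 2, 0, 4, 1, 0, 4]),
    (91, [4, 2, 3, 1, 2, 4, 1, 3, 4]),
    (95, [0, 3, 4, 3, 2, 4, 1]),
    (96, [3, 1, 2, 1, 4, 3, 4]),
    (98, [3, 2, 1, 0])]),
  (2, [
    (2, []),
    (3, [1, 2, 4, 2, 3, 2, 3, 0, 2, 1, 4, 3, 2, 4]),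
    (4, [0, 1, 0, 1, 3, 2, 3, 4, 1, 0, 3, 2, 4, 0, 1, 2]),
    (5, [1, 0, 1, 2, 1, 3, 4, 2, 3, 4, 3, 1, 2, 3, 1]),
    (6, [4, 2, 0, 1, 3, 0, 4, 3, 1, 2, 1, 3, 4, 3, 1, 4, 2, 1, 2]),
    (7, [0, 1, 4, 0, 4, 2, 1, 0, 4]),
    (8, [3, 1, 3, 4, 0, 1, 0, 4, 3, 0, 4, 1, 4, 3, 1, 0, 2, 3, 1, 4, 3]),
    (9, [4, 3, 2, 1, 0, 3, 4, 2, 3, 2, 0, 1, 2, 4, 0, 2, 4]),
    (10, [2, 3, 4, 1, 3, 4, 0, 1, 4, 0, 2]),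
    (11, [0, 2, 1, 0, 2, 1, 3, 4, 2, 3, 4, 0, 1, 3]),
    (12, [2, 0, 2, 0, 4, 2, 1, 3, 1, 2, 0, 4, 3, 2, 4]),
    (13, [1, 3, 2, 1, 2, 4, 3, 2, 3, 4, 1, 0, 2, 1, 0, 1]),
    (14, [1, 4, 2, 3, 4, 3, 0, 4, 0, 1, 3, 2, 4, 1, 0, 2]),
    (15, [2, 4, 3, 1, 3, 4, 2]),
    (16, [3, 1, 2, 1, 3, 4, 1, 2, 3, 4, 0, 2, 0, 1, 2, 1]),
    (17, [1, 3, 2, 1, 0, 2, 1, 3, 0, 2, 1, 0, 1, 2, 0]),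
    (18, [1, 0, 2, 1, 3, 1, 0, 3, 4, 2, 4, 3, 1, 3, 1]),
    (20, [1, 2, 3, 1, 3, 1, 0, 1, 4, 2, 1, 0, 2, 4, 1]),
    (21, [1, 0, 4, 2, 0, 2, 4, 0, 1]),
    (22, [4, 3, 4, 1, 2, 1, 3, 4, 1, 3, 1, 2, 3, 1, 4, 3]),
    (25, [4, 2, 0, 1, 4, 0, 4, 0, 4, 0, 3, 2, 3, 4, 1, 0, 3, 2, 1]),
    (26, [2, 0, 4, 0, 1, 0, 4, 0, 2, 4, 1, 0, 2, 0, 2, 3, 4, 0, 2, 1, 2]),
    (27, [1, 0, 1, 2, 0, 2, 1, 0, 1]),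
    (28, [2, 0, 4, 0, 1, 0, 4, 0, 2, 4, 1, 0, 2, 0, 2, 4, 0, 1, 2, 1]),
    (32, [4, 0, 2, 0, 2, 4, 2, 4, 0, 3, 1, 0, 2]),
    (37, [2, 1, 3, 1, 2, 1, 3, 1, 2, 3]),
    (38, [2, 4, 3, 4, 1, 3, 4, 2, 4, 1, 3, 1, 2, 3, 4, 2, 1, 3, 2, 4]),
    (39, [4, 1, 2, 0, 4, 0, 4, 1, 2, 4, 0, 1, 3, 2, 4, 2, 1, 0, 2]),
    (40, [4, 2, 3, 2, 4, 3, 2, 3, 4, 2, 4, 3, 1, 2, 3, 4, 2]),
    (42, [1, 3, 2, 3, 1, 4, 0, 2, 3, 0, 2, 0, 4, 1]),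
    (43, [3, 2, 3, 1, 0, 2, 0, 1]),
    (45, [4, 3, 4, 3, 2, 4, 3, 2, 0, 1, 0, 2]),
    (46, [4, 0, 2, 0, 3, 4, 1, 2, 0, 2, 0, 4, 1, 3, 4, 2, 1, 0, 4, 0, 1, 2]),
    (47, [1, 4, 0, 3, 0, 4, 3, 0, 2, 0, 4, 1, 3, 0, 4, 2, 3, 1, 2]),
    (48, [4, 0, 2, 0, 1, 2, 0, 1, 2, 3, 0, 2, 4]),
    (51, [1, 2, 4, 2, 1, 0, 3, 4, 0, 2, 4, 0, 2]),
    (53, [1, 4, 2, 3, 2, 4, 3, 0, 2, 3, 1, 2, 0, 3, 1, 2]),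
    (54, [3, 1, 2, 0, 2, 3, 1, 2, 0]),
    (57, [0, 2, 1, 0, 2, 1, 3, 4, 1, 2, 4, 3, 1, 2]),
    (60, [2, 4, 3, 0, 1, 0, 2, 4, 1, 2, 1, 3, 1, 4, 1, 2]),
    (61, [2, 3, 4, 2, 1, 3, 4, 0, 2, 4, 1, 2, 0, 2]),
    (62, [4, 2, 3, 2, 1, 4, 3, 2, 3, 4, 2, 0, 1, 0, 1, 3, 4, 3, 2, 1]),
    (63, [2, 1, 0, 1, 2, 3, 2, 3, 4, 2, 3, 4, 1]),
    (64, [4, 3, 4, 1, 2, 1, 3, 4, 1, 3, 2, 3, 1, 2, 3, 2, 1, 4]),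
    (67, [4, 3, 1, 4, 2, 1, 3, 2, 4, 2, 1, 0, 2, 1, 4, 2, 1]),
    (68, [0, 3, 2, 4, 2, 1, 3, 2, 4, 0, 4, 1, 0, 2, 4]),
    (69, [1, 2, 4, 2, 3, 2, 3, 1, 4, 0, 2, 4, 3, 0, 2, 1]),
    (72, [1, 3, 1, 2, 3, 4, 2, 3, 1, 4, 1, 3, 4]),
    (74, [0, 1, 4, 2, 1, 2, 4, 3, 4, 3, 2, 3, 2, 4, 1, 2, 0]),
    (80, [0, 4, 3, 2, 4, 2, 4, 3, 1, 4, 0, 2, 0, 1, 3, 4, 0, 2]),
    (82, [1, 2, 3, 1, 3, 1, 2, 1, 0, 2, 3, 1]),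
    (83, [2, 0, 4, 0, 1, 0, 4, 0, 2, 3, 1, 4, 1, 0, 2, 1, 3, 1, 4]),
    (84, [3, 1, 0, 2, 1, 0, 4, 1, 2, 3, 4, 3, 1, 3, 2]),
    (86, [0, 1, 0, 4, 3, 0, 1, 0, 4, 3]),
    (87, [0, 1, 0, 1, 3, 2, 3, 4, 2, 0, 1, 0, 4, 0, 2, 3]),
    (88, [3, 1, 2, 1, 2, 4, 1, 0, 3, 1, 4, 0]),
    (90, [1, 0, 2, 3, 1, 4, 2, 4, 3, 4, 2, 4]),
    (95, [0, 2, 0, 1, 3, 2, 3, 0, 3]),
    (96, [3, 2, 0, 3, 4, 2, 0, 4, 1, 0, 2, 4, 3]),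
    (98, [1, 0, 2, 3, 1, 2, 0, 4, 1, 4, 0, 1, 4, 1, 2])]),
  (3, [
    (3, []),
    (8, [4, 0, 1, 2, 4, 0, 4, 1, 0, 3, 1, 0, 2, 0, 1, 3]),
    (9, [4, 2, 3, 4, 1, 2, 0, 3, 2, 3, 2, 4, 2, 1, 4, 3, 4, 3, 0, 3, 4, 2, 4, 3, 1, 0]),
    (14, [3, 0, 3, 2, 3, 1, 0, 2, 0, 4, 3, 4, 1, 2, 1, 3, 4, 1, 0, 3, 1, 4]),
    (17, [4, 2, 0, 4, 2, 1, 0, 2, 3, 2, 4, 3, 0, 1, 2, 3, 4, 1, 3, 2, 4, 3, 1, 2, 3, 4, 0, 2, 0, 1, 3, 2]),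
    (37, [2, 0, 4, 2, 0, 4, 3, 0, 1, 2, 4, 2, 1, 3, 1, 2, 1, 3, 1, 3, 2, 1, 3, 2, 1, 3]),
    (39, [3, 4, 0, 1, 0, 3, 4, 0, 2, 3, 4, 3, 4, 2, 0]),
    (40, [4, 2, 4, 3, 4, 2, 4, 1, 3, 2, 0, 2, 4, 2, 3, 2, 3, 1, 2, 4, 0, 3, 2, 0, 2, 1]),
    (46, [0, 4, 1, 3, 0, 1, 4, 2, 1, 2, 1, 3, 1, 2, 4, 2, 3, 2, 3, 1, 2, 4, 0, 1, 2, 0, 2]),
    (51, [2, 0, 1, 3, 0, 4, 2, 4, 2, 0, 2, 0, 4, 3, 2, 0, 1, 3, 2, 3, 4, 0, 3, 2, 3, 4, 0, 2, 3, 4, 2]),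
    (86, [3, 4, 0, 1, 0, 3, 4, 0, 3, 4, 2, 3, 4, 3, 0]),
    (90, [4, 2, 3, 4, 1, 2, 0, 3, 2, 3, 2, 4, 2, 1, 0, 1, 0, 4, 2, 0, 1, 0, 4])]),
  (4, [
    (4, []),
    (18, [0, 2, 4, 3, 4, 3, 2, 0, 4, 3, 0, 1, 0, 4, 2, 1, 3, 1, 2, 1, 3, 1, 2, 3, 2, 0, 1, 3, 2, 3, 0, 1, 4, 0, 3, 1, 4, 0, 4]),
    (45, [4, 1, 3, 0, 1, 4, 3, 1, 2, 1, 4, 3, 4, 0, 2, 0, 1, 3, 2, 3, 0, 3, 2, 0, 1, 3, 0, 4, 2, 4, 2, 0, 2, 0, 3, 4, 1, 2, 1, 3, 0, 1, 4, 0, 2, 0, 3, 4, 0]),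
    (47, [0, 2, 4, 3, 4, 3, 2, 0, 4, 3, 0, 1, 0, 4, 3, 2, 0, 4, 2, 0, 4, 3, 0, 1, 2, 4, 2, 0, 2, 3, 1, 2, 4, 3, 2, 1, 3, 4, 2]),
    (53, [4, 0, 1, 0, 2, 4, 0, 1, 0, 1, 2, 4, 2, 3, 2, 3, 0, 2, 1, 4, 3, 2, 4, 1, 2, 4, 2, 1, 3, 4, 2, 0, 2, 3, 4]),
    (72, [0, 1, 3, 4, 2, 4, 3, 0, 3, 4, 3, 4, 1, 2, 4, 2, 3, 2, 3, 0, 2, 1, 4, 3, 2, 4, 3, 0, 3, 2, 3, 1, 0, 2, 0, 4, 3, 4, 1, 2, 1, 3, 0, 4, 0, 4, 1, 2, 0, 4]),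
    (80, [3, 1, 0, 2, 0, 1, 3, 0, 1, 4, 0, 4, 2, 1, 0, 4, 2, 1, 0, 1, 2, 4, 0, 1, 3, 1, 0, 4, 1]),
    (96, [0, 1, 3, 4, 2, 4, 3, 0, 3, 4, 3, 4, 1, 2, 4, 2, 3, 2, 3, 0, 2, 1, 4, 3, 2, 4, 3, 4, 0, 1, 0, 3, 4, 0, 1, 0, 1, 4, 3, 4, 3, 2, 1, 2, 3, 1, 0, 1])])]

theorem lifts_ok : lifts.OK := by
  refine ⟨?_, ?_, by decide +kernel⟩
  · intro c hc
    exact allFrom_spec pointRange0 c (by omega) (by change c < 704 at hc; omega)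
  · intro c hc
    by_cases h0 : c < 300
    · exact allFrom_spec repRange0 c (by omega) (by omega)
    exact allFrom_spec repRange300 c (by omega) (by change c < 352 at hc; omega)

theorem sat_check : satOK 100 7 eltRows 361 basePts genWords rels5 genOrbits = true := by decide +kernel

theorem orbit_count : (transIdx.map List.length).prod ≤ (genOrbits.map fun e => e.2.length).prod := by decide +kernel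

/-- The cover. -/
theorem exists_cover (hperf : commutator ↥HSPerm.P = ⊤) :
    ∃ (Γ : Type) (_ : Group Γ) (_ : Finite Γ) (σ : Γ →* ↥HSPerm.P),
      Cfsg.IsStemExtension σ ∧ IsCyclic σ.ker ∧ Nat.card σ.ker = 2 := by
  obtain ⟨g, hsat, hgen⟩ := packed.exists_sat sat_check orbit_count
  have hr : lifts.rels.map Prod.fst = rels5 := by decide +kernel
  refine Cover.exists_cover lifts_ok hperf (g := g) (by rw [hr]; exact hsat) hgen ?_ (ps := [0]) ?_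
    (cs := [0, 0, 0, 0, 0]) (cr := [1, 1, 0, 0, 1, 1, 0, 0, 1, 0, 0, 0, 0, 0, 0, 0, 0]) ?_
  · rw [hr, packed.card, chain_size]
    exact card5
  · decide +kernel
  · decide +kernel

end CfsgLib.Spor.Mults.HigmanSims
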