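import Cfsg.Agent.Lib.Spor.Mults.Transport
import Cfsg.Agent.Lib.Spor.Mults.HigmanSims.CoverBuild
import Cfsg.Agent.Lib.Spor.Mults.HigmanSims.Bound

/-!
The Schur multiplier of the Higman-Sims group has order two.
-/

set_option autoImplicit false

namespace CfsgLib.Spor.Mults.HigmanSims

open Cfsg CfsgLib.Spor CfsgLib.Spor.Leech.Census32

theorem commutator_P : commutator ↥HSPerm.P = ⊤ := by
  haveI := simple_hs_base
  haveI : IsSimpleGroup ↥HSPerm.P := HSPerm.equivP.symm.isSimpleGroup
  haveI : Finite ↥HSPerm.P := inferInstance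
  exact commutator_eq_top_of_card (by rw [card_group]; norm_num)

theorem multiplier_HS : Cfsg.HasCyclicSchurMultiplier ↥Spor.HS 2 := by
  obtain ⟨e⟩ := HSPerm.nonempty_equiv_HS
  exact hasCyclic_of e (exists_cover commutator_P) fun _ _ _ _ hσ =>
    cyclic_of_dvd_prime Nat.prime_two (card_ker_dvd hσ)

end CfsgLib.Spor.Mults.HigmanSims
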